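import Cfsg.Agent.H843.TC6.Psp
import Cfsg.Agent.H311.TC6.Xi
import Cfsg.Agent.H777.T6.Defs

/-!
# S2464, S2452: the rows `PSp_2m(q)`, `q` odd, `m ≥ 3`

* `pp_psp` : one class of prime order, `m % 4 ≠ 0`.
* `row3_psp` : the same as `Row3`.
* `t6_psp` : all `m ≥ 3`, except `m = 4` and `q = 3, 5, 7, 17`.
-/

set_option autoImplicit false

namespace Cfsg.Agent.H843.TC6

open Cfsg

theorem odd_card {F : Type} [Field F] [Finite F] (h2 : (2 : F) ≠ 0) : Odd (Nat.card F) := by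
  have := Fintype.ofFinite F
  rw [← Nat.not_even_iff_odd, Nat.even_iff, Nat.card_eq_fintype_card, ← FiniteField.even_card_iff_char_two]
  intro h
  apply h2
  have h3 := (ringChar.spec F 2).2 (by rw [h])
  exact_mod_cast h3

theorem psp_prime {m : ℕ} (hm : 3 ≤ m) (h4 : m % 4 ≠ 0) (F : Type) [Field F] [Finite F] (h2 : (2 : F) ≠ 0) :
    ∃ (r : ℕ) (x : PSp m F), r.Prime ∧ Nat.Coprime r 6 ∧ orderOf x = r ∧
      ∀ g : PSp m F, ∃ u v : PSp m F, g = (u * x * u⁻¹) * (v * x * v⁻¹) := by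
  have fin : ∀ {r : ℕ}, r.Prime → Nat.Coprime r 6 → (∃ x : PSp m F, x ^ r = 1 ∧ x ≠ 1 ∧
      ∀ g : PSp m F, ∃ u v : PSp m F, g = (u * x * u⁻¹) * (v * x * v⁻¹)) → ∃ (r : ℕ) (x : PSp m F), r.Prime ∧
      Nat.Coprime r 6 ∧ orderOf x = r ∧ ∀ g : PSp m F, ∃ u v : PSp m F, g = (u * x * u⁻¹) * (v * x * v⁻¹) := by
    rintro r hr hr6 ⟨x, hx, hx1, h⟩
    refine ⟨r, x, hr, hr6, ?_, h⟩
    rcases (Nat.dvd_prime hr).1 (orderOf_dvd_of_pow_eq_one hx) with h1 | h1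
    · exact absurd (orderOf_eq_one_iff.1 h1) hx1
    · exact h1
  rcases Nat.even_or_odd m with he | ho
  · obtain ⟨s, hs⟩ := he
    have hso : Odd s := by
      rw [← Nat.not_even_iff_odd]
      rintro ⟨c, hc⟩
      omega
    obtain ⟨r, hr, hr6, K, _, _, _, ξ, hξ, hξr⟩ := H311.TC6.xi_odd F (s := s) (by
      obtain ⟨c, hc⟩ := hso
      omega) hso
    exact fin hr hr6 (psp_cc h2 (by omega) (s := s) (by omega) hξ
      (Or.inr ⟨hso, by omega, by obtain ⟨c, hc⟩ := hso; omega⟩) hξr)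
  · obtain ⟨r, hr, hr6, K, _, _, _, ξ, hξ, hξr⟩ := H311.TC6.xi_odd F hm ho
    exact fin hr hr6 (psp_cc h2 (by omega) (s := m) (by omega) hξ (Or.inl ⟨rfl, Or.inl ho⟩) hξr)

theorem row3_psp {m : ℕ} (hm : 3 ≤ m) (h4 : m % 4 ≠ 0) (F : Type) [Field F] [Finite F] (h2 : (2 : F) ≠ 0) :
    H210.TC.Row3 (PSp m F) := by
  obtain ⟨r, x, hr, hr6, ho, h⟩ := psp_prime hm h4 F h2
  exact H210.TC.Row3.of_sq (x := x) (by rw [ho]; exact hr) (by rw [ho]; exact hr6) fun g _ => h g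

theorem pp_psp {m : ℕ} (hm : 3 ≤ m) (h4 : m % 4 ≠ 0) (F : Type) [Field F] [Finite F] (h2 : (2 : F) ≠ 0) :
    H494.TC.PP (PSp m F) := by
  obtain ⟨r, x, hr, hr6, ho, h⟩ := psp_prime hm h4 F h2
  exact ⟨x, by rw [ho]; exact hr, by rw [ho]; exact hr6, fun g _ => h g⟩

theorem t6_psp {m : ℕ} (hm : 3 ≤ m) (F : Type) [Field F] [Finite F] (h2 : (2 : F) ≠ 0)
    (hne : m = 4 → Nat.card F ≠ 3 ∧ Nat.card F ≠ 5 ∧ Nat.card F ≠ 7 ∧ Nat.card F ≠ 17) : H777.T6.T6 (PSp m F) := by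
  by_cases h4 : m % 4 = 0
  · obtain ⟨N, hN6, K, _, _, _, ξ, hξ, hξN⟩ := H311.TC6.xi_four F (s := m) (Nat.dvd_of_mod_eq_zero h4) (by omega)
      (odd_card h2) hne
    exact six_psp_of h2 (by omega) (s := m) (by omega) hξ (Or.inl ⟨rfl, Or.inr (Nat.dvd_of_mod_eq_zero h4)⟩) hN6 hξN
  · exact H777.T6.T6.of_row3 (row3_psp hm h4 F h2)

end Cfsg.Agent.H843.TC6
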