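import Cfsg.Agent.H843.TC6.Main
import Cfsg.Agent.H144.TC.Types

/-!
# S2464, S2452 for `PSp_2n(q)`: Levi elements of type `f` are conjugate
-/

set_option autoImplicit false
set_option linter.style.haveILetI false
open Polynomial

noncomputable section

namespace Cfsg.Agent.H843.TC6

open Cfsg.Agent.H144 Cfsg.Agent.H144.War Cfsg.Agent.H144.TC

section

variable {F K : Type*} [Field F] [Field K] [Algebra F K] [FiniteDimensional F K]

theorem ne_fin (ξ : K) : Nonempty (Fin (minpoly F ξ).natDegree) :=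
  ⟨⟨0, minpoly.natDegree_pos (Algebra.IsIntegral.isIntegral (R := F) ξ)⟩⟩

/-- the power basis of `ξ` -/
def pbOf (F : Type*) {K : Type*} [Field F] [Field K] [Algebra F K] [FiniteDimensional F K] (ξ : K)
    (h : (minpoly F ξ).natDegree = Module.finrank F K) : PowerBasis F K where
  gen := ξ
  dim := (minpoly F ξ).natDegree
  basis :=
    have := ne_fin (F := F) ξ
    basisOfLinearIndependentOfCardEqFinrank (linearIndependent_pow ξ) (by rw [Fintype.card_fin, h])
  basis_eq_pow i := by
    haveI := ne_fin (F := F) ξ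
    rw [coe_basisOfLinearIndependentOfCardEqFinrank]

theorem exists_equiv {ξ : K} (h : (minpoly F ξ).natDegree = Module.finrank F K) {P P' : Type*} [AddCommGroup P]
    [Module F P] [FiniteDimensional F P] [AddCommGroup P'] [Module F P'] [FiniteDimensional F P']
    (hPP : Module.finrank F P = Module.finrank F P') {x : Module.End F P} {x' : Module.End F P'}
    (hx : aeval x (minpoly F ξ) = 0) (hx' : aeval x' (minpoly F ξ) = 0) :
    ∃ φ : P ≃ₗ[F] P', ∀ v, φ (x v) = x' (φ v) := by
  let ρ : K →ₐ[F] Module.End F P := (pbOf F ξ h).lift x hx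
  let ρ' : K →ₐ[F] Module.End F P' := (pbOf F ξ h).lift x' hx'
  have hρ : ρ ξ = x := (pbOf F ξ h).lift_gen x hx
  have hρ' : ρ' ξ = x' := (pbOf F ξ h).lift_gen x' hx'
  letI : Module K P := Module.compHom P (ρ : K →+* Module.End F P)
  letI : Module K P' := Module.compHom P' (ρ' : K →+* Module.End F P')
  have sm : ∀ (c : K) (v : P), c • v = ρ c v := fun _ _ => rfl
  have sm' : ∀ (c : K) (v : P'), c • v = ρ' c v := fun _ _ => rfl
  haveI : IsScalarTower F K P := ⟨fun a b v => by rw [sm, sm, map_smul]; rfl⟩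
  haveI : IsScalarTower F K P' := ⟨fun a b v => by rw [sm', sm', map_smul]; rfl⟩
  haveI : Module.Finite K P := Module.Finite.of_restrictScalars_finite F K P
  haveI : Module.Finite K P' := Module.Finite.of_restrictScalars_finite F K P'
  have h1 := Module.finrank_mul_finrank F K P
  have h2 := Module.finrank_mul_finrank F K P'
  have h3 : Module.finrank K P = Module.finrank K P' := by
    have h4 : Module.finrank F K * Module.finrank K P = Module.finrank F K * Module.finrank K P' := by
      rw [h1, h2, hPP]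
    exact Nat.eq_of_mul_eq_mul_left Module.finrank_pos h4
  let e : P ≃ₗ[K] P' := LinearEquiv.ofFinrankEq P P' h3
  refine ⟨e.restrictScalars F, fun v => ?_⟩
  change e (x v) = x' (e v)
  rw [← hρ, ← sm, map_smul, sm', hρ']

end

section

variable {F V K : Type*} [Field F] [AddCommGroup V] [Module F V] [FiniteDimensional F V] [Field K] [Algebra F K]
  [FiniteDimensional F K]

theorem lt_conj {s : ℕ} {ξ : K} (hξ : Gx F s ξ) {B : LinearMap.BilinForm F V} (hB : Alt B) (hN : Nond B)
    {X X' : V ≃ₗ[F] V} (hX : LT B (minpoly F ξ) X) (hX' : LT B (minpoly F ξ) X') :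
    ∃ u : V ≃ₗ[F] V, Iso B u ∧ X' = u * X * u⁻¹ := by
  obtain ⟨h0, hK, hdeg, -, -⟩ := hξ
  obtain ⟨hI, P, Q, hP, hQ, hPQ, hXP, hXQ, hf⟩ := hX
  obtain ⟨hI', P', Q', hP', hQ', hPQ', hXP', hXQ', hf'⟩ := hX'
  have h1 : HasType B (gr X P hXP) X := ⟨hI, P, Q, hP, hQ, hPQ, hXQ, LinearEquiv.refl F P, fun v => rfl⟩
  have hfin : Module.finrank F P' = Module.finrank F P := by
    have h2 := finrank_two hB hN hP hQ hPQ
    have h3 := finrank_two hB hN hP' hQ' hPQ'
    omega
  have mk : ∀ (R : Submodule F V) (Y : V ≃ₗ[F] V) (hY : ∀ v ∈ R, Y v ∈ R)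
      (_ : ∀ v ∈ R, aeval (Y : Module.End F V) (minpoly F ξ) v = 0),
      aeval ((gr Y R hY : R ≃ₗ[F] R) : Module.End F R) (minpoly F ξ) = 0 := by
    intro R Y hY hR
    ext v
    have h4 := aeval_restrict (X := (Y : Module.End F V)) (x := ((gr Y R hY : R ≃ₗ[F] R) : Module.End F R))
      (fun v => rfl) (minpoly F ξ) v
    rw [← h4, hR v v.2]
    rfl
  obtain ⟨φ, hφ⟩ := exists_equiv (ξ := ξ) (by rw [hdeg, hK]) hfin (mk P' X' hXP' hf') (mk P X hXP hf)
  have h2 : HasType B (gr X P hXP) X' := by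
    refine ⟨hI', P', Q', hP', hQ', hPQ', hXQ', φ, fun v => ?_⟩
    have h3 : tr φ (gr X P hXP) v = gr X' P' hXP' v := by
      rw [tr_apply, LinearEquiv.symm_apply_eq]
      exact (hφ v).symm
    rw [h3]
    rfl
  exact h1.unique hB hN h2

omit [FiniteDimensional F K] in
theorem lt_pow {s : ℕ} {ξ : K} (_ : Gx F s ξ) {B : LinearMap.BilinForm F V} (hB : Alt B) (hN : Nond B)
    {X : V ≃ₗ[F] V} (hX : LT B (minpoly F ξ) X) {N : ℕ} (hNξ : ξ ^ N = 1) : X ^ N = 1 := by
  obtain ⟨hI, P, Q, hP, hQ, hPQ, hXP, hXQ, hf⟩ := hX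
  ext v
  have hd : minpoly F ξ ∣ Polynomial.X ^ N - 1 := minpoly.dvd F ξ (by simp [hNξ])
  obtain ⟨t, ht⟩ := hd
  have h1 := levi_unique hB hN hP hQ hPQ (Iso.pow hI N) (mem_pow hXQ N) 1 (one_mul 1) (fun v hv => by
    have h2 : aeval (X : Module.End F V) (Polynomial.X ^ N - 1 : F[X]) v = 0 := by
      rw [ht, mul_comm, map_mul, Module.End.mul_apply, hf v hv, map_zero]
    rw [map_sub, map_pow, aeval_X, map_one, LinearMap.sub_apply, sub_eq_zero] at h2
    rw [one_smul]
    have h3 : ∀ (k : ℕ) (v : V), (X ^ k) v = ((X : Module.End F V) ^ k) v := by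
      intro k
      induction k with
      | zero => intro v; rfl
      | succ k ih =>
        intro v
        rw [pow_succ, LinearEquiv.mul_apply, ih, pow_succ, Module.End.mul_apply]
        rfl
    rw [h3, h2]
    rfl) v
  rw [h1, one_smul]
  rfl

theorem lt_not_scalar {s : ℕ} (hs : 2 ≤ s) {ξ : K} (hξ : Gx F s ξ) {B : LinearMap.BilinForm F V} (hB : Alt B)
    (hN : Nond B) (hV : 0 < Module.finrank F V) {X : V ≃ₗ[F] V} (hX : LT B (minpoly F ξ) X) (c : F) :
    ¬ ∀ v, X v = c • v := by
  intro hc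
  obtain ⟨h0, hK, hdeg, -, -⟩ := hξ
  obtain ⟨hI, P, Q, hP, hQ, hPQ, hXP, hXQ, hf⟩ := hX
  have h1 := finrank_two hB hN hP hQ hPQ
  have hPb : P ≠ ⊥ := by
    rintro rfl
    rw [finrank_bot] at h1
    omega
  obtain ⟨v, hv, hv0⟩ := Submodule.exists_mem_ne_zero_of_ne_bot hPb
  have h2 := hf v hv
  have h3 : aeval (X : Module.End F V) (minpoly F ξ) v = (minpoly F ξ).eval c • v := by
    have h4 : ∀ k : ℕ, ((X : Module.End F V) ^ k) v = c ^ k • v := by
      intro k
      induction k with
      | zero => simp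
      | succ k ih =>
        rw [pow_succ', Module.End.mul_apply, ih, map_smul]
        have h5 : (X : Module.End F V) v = c • v := hc v
        rw [h5, smul_smul, pow_succ]
    induction (minpoly F ξ) using Polynomial.induction_on' with
    | add p q hp hq => rw [map_add, LinearMap.add_apply, hp, hq, eval_add, add_smul]
    | monomial k a =>
      rw [aeval_monomial, Module.algebraMap_end_eq_smul_id, Module.End.mul_apply, LinearMap.smul_apply,
        LinearMap.id_apply, h4, eval_monomial, smul_smul]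
  rw [h3] at h2
  have h4 : (minpoly F ξ).eval c = 0 := (smul_eq_zero.1 h2).resolve_right hv0
  have h5 := degree_eq_one_of_irreducible_of_root (minpoly.irreducible (Algebra.IsIntegral.isIntegral (R := F) ξ)) h4
  have h6 : (minpoly F ξ).natDegree = 1 := natDegree_eq_of_degree_eq_some (by exact_mod_cast h5)
  omega

end

end Cfsg.Agent.H843.TC6
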