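import Cfsg.Agent.H144.War.MixEng

/-!
# S2464, S2452 for `PSp_2n(q)`: the engine

* `LT B f X` : the isometry `X` preserves the members of a pair of totally isotropic complements `P`, `Q`, and
  `f (X) = 0` on `P`.
* `CC B f g` : `g = X Z` with `LT B f X`, `LT B f Z`.
* `cc_of_corner` : `V = P ⊕ Q`, `g v - A v ∈ Q` for `v ∈ P`, `A = x z`, `f (x) = 0`, `f (z⁻¹) = 0`, `f = minpoly ξ` and
  `ξ`, `ξ⁻¹` not conjugate: `CC B f g`.
-/

set_option autoImplicit false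
open Polynomial

noncomputable section

namespace Cfsg.Agent.H843.TC6

open Cfsg.Agent.H144 Cfsg.Agent.H144.War

section Defs

variable {F V : Type*} [Field F] [AddCommGroup V] [Module F V]

/-- `A = x z` with `f (x) = 0`, `f (z⁻¹) = 0` -/
def FF (f : F[X]) (A : V ≃ₗ[F] V) : Prop :=
  ∃ x z : V ≃ₗ[F] V, aeval (x : Module.End F V) f = 0 ∧ aeval ((z⁻¹ : V ≃ₗ[F] V) : Module.End F V) f = 0 ∧
    ∀ v, A v = x (z v)

/-- Levi elements of type `f` -/
def LT (B : LinearMap.BilinForm F V) (f : F[X]) (X : V ≃ₗ[F] V) : Prop :=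
  Iso B X ∧ ∃ P Q : Submodule F V, Orth B P P ∧ Orth B Q Q ∧ P ⊔ Q = ⊤ ∧ (∀ v ∈ P, X v ∈ P) ∧ (∀ v ∈ Q, X v ∈ Q) ∧
    ∀ v ∈ P, aeval (X : Module.End F V) f v = 0

/-- product of two Levi elements of type `f` -/
def CC (B : LinearMap.BilinForm F V) (f : F[X]) (g : V ≃ₗ[F] V) : Prop :=
  ∃ X Z : V ≃ₗ[F] V, LT B f X ∧ LT B f Z ∧ g = X * Z

end Defs

section

variable {F V M : Type*} [Field F] [AddCommGroup V] [Module F V] [AddCommGroup M] [Module F M]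

theorem conj_aeval (u X : V ≃ₗ[F] V) (f : F[X]) (v : V) :
    aeval ((u * X * u⁻¹ : V ≃ₗ[F] V) : Module.End F V) f v = u (aeval (X : Module.End F V) f (u⁻¹ v)) := by
  have hk : ∀ (k : ℕ) (v : V), ((((u * X * u⁻¹ : V ≃ₗ[F] V) : Module.End F V)) ^ k) v =
      u (((X : Module.End F V) ^ k) (u⁻¹ v)) := by
    intro k
    induction k with
    | zero => intro v; simp only [pow_zero, Module.End.one_apply, app_inv]
    | succ k ih =>
      intro v
      rw [pow_succ, Module.End.mul_apply, ih, pow_succ, Module.End.mul_apply]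
      congr 2
      change u⁻¹ (u (X (u⁻¹ v))) = _
      rw [inv_app]
      rfl
  induction f using Polynomial.induction_on' with
  | add p q hp hq => simp only [map_add, LinearMap.add_apply, hp, hq]
  | monomial k a =>
    simp only [aeval_monomial, Module.algebraMap_end_eq_smul_id, Module.End.mul_apply, LinearMap.smul_apply,
      LinearMap.id_apply, hk, map_smul]

theorem aeval_tr (φ : V ≃ₗ[F] M) (x : M ≃ₗ[F] M) (f : F[X]) (v : V) :
    aeval ((tr φ x : V ≃ₗ[F] V) : Module.End F V) f v = φ.symm (aeval (x : Module.End F M) f (φ v)) := by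
  have hk : ∀ (k : ℕ) (v : V), (((tr φ x : V ≃ₗ[F] V) : Module.End F V) ^ k) v =
      φ.symm (((x : Module.End F M) ^ k) (φ v)) := by
    intro k
    induction k with
    | zero => intro v; simp
    | succ k ih =>
      intro v
      rw [pow_succ, Module.End.mul_apply, ih, pow_succ, Module.End.mul_apply]
      congr 2
      change φ (φ.symm (x (φ v))) = _
      rw [φ.apply_symm_apply]
      rfl
  induction f using Polynomial.induction_on' with
  | add p q hp hq => simp only [map_add, LinearMap.add_apply, hp, hq]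
  | monomial k a =>
    simp only [aeval_monomial, Module.algebraMap_end_eq_smul_id, Module.End.mul_apply, LinearMap.smul_apply,
      LinearMap.id_apply, hk, map_smul]

theorem tr_inv (φ : V ≃ₗ[F] M) (x : M ≃ₗ[F] M) : (tr φ x)⁻¹ = tr φ x⁻¹ := by
  rw [inv_eq_iff_mul_eq_one, ← tr_mul, mul_inv_cancel, tr_one]

theorem FF.conj {f : F[X]} {A : M ≃ₗ[F] M} (hA : FF f A) (φ : V ≃ₗ[F] M) {A' : V ≃ₗ[F] V}
    (h : ∀ v, φ (A' v) = A (φ v)) : FF f A' := by
  obtain ⟨x, z, hx, hz, hxz⟩ := hA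
  refine ⟨tr φ x, tr φ z, ?_, ?_, fun v => ?_⟩
  · ext v
    rw [aeval_tr, hx]
    simp
  · ext v
    rw [tr_inv, aeval_tr, hz]
    simp
  · rw [tr_apply, tr_apply, φ.apply_symm_apply, ← hxz, ← h, φ.symm_apply_apply]

theorem LT.conj {B : LinearMap.BilinForm F V} {f : F[X]} {X : V ≃ₗ[F] V} (hX : LT B f X) {u : V ≃ₗ[F] V}
    (hu : Iso B u) : LT B f (u * X * u⁻¹) := by
  obtain ⟨hI, P, Q, hP, hQ, hPQ, hXP, hXQ, hf⟩ := hX
  have hm : ∀ (R : Submodule F V) (v : V), v ∈ R.map (u : V →ₗ[F] V) ↔ u⁻¹ v ∈ R := by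
    intro R v
    rw [Submodule.mem_map]
    constructor
    · rintro ⟨w, hw, rfl⟩
      change u⁻¹ (u w) ∈ R
      rwa [inv_app]
    · intro h
      exact ⟨_, h, app_inv u v⟩
  have ho : ∀ R : Submodule F V, Orth B R R → Orth B (R.map (u : V →ₗ[F] V)) (R.map (u : V →ₗ[F] V)) := by
    intro R hR x hx y hy
    rw [← hu.inv x y]
    exact hR _ ((hm R x).1 hx) _ ((hm R y).1 hy)
  refine ⟨(hu.mul hI).mul hu.inv, P.map (u : V →ₗ[F] V), Q.map (u : V →ₗ[F] V), ho P hP, ho Q hQ, ?_, ?_, ?_, ?_⟩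
  · rw [← Submodule.map_sup, hPQ, Submodule.map_top]
    exact LinearMap.range_eq_top.2 u.surjective
  · intro v hv
    rw [hm]
    change u⁻¹ (u (X (u⁻¹ v))) ∈ P
    rw [inv_app]
    exact hXP _ ((hm P v).1 hv)
  · intro v hv
    rw [hm]
    change u⁻¹ (u (X (u⁻¹ v))) ∈ Q
    rw [inv_app]
    exact hXQ _ ((hm Q v).1 hv)
  · intro v hv
    rw [conj_aeval, hf _ ((hm P v).1 hv), map_zero]

theorem LT.inv {B : LinearMap.BilinForm F V} (hN : Nond B) {f : F[X]} {X : V ≃ₗ[F] V} [FiniteDimensional F V]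
    (hX : LT B f X) : LT B f X⁻¹ := by
  obtain ⟨hI, P, Q, hP, hQ, hPQ, hXP, hXQ, hf⟩ := hX
  refine ⟨hI.inv, Q, P, hQ, hP, by rw [sup_comm]; exact hPQ, inv_mem_of_mem hXQ, inv_mem_of_mem hXP, ?_⟩
  intro v hv
  apply eq_zero_of_orth hN hPQ
  · intro w hw
    rw [← aeval_adj hI f v w, hf w hw, map_zero]
  · exact hQ _ (aeval_mem (inv_mem_of_mem hXQ) f v hv)

theorem CC.ng {B : LinearMap.BilinForm F V} {f : F[X]} {g h : V ≃ₗ[F] V} (hc : CC B f g) (e : g = h) : CC B f h := e ▸ hc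

end

section

variable {F V : Type*} [Field F] [AddCommGroup V] [Module F V] [FiniteDimensional F V]

/-- the two eigenvalue conditions -/
def Gx (F : Type*) {K : Type*} [Field F] [Field K] [Algebra F K] (s : ℕ) (ξ : K) : Prop :=
  ξ ≠ 0 ∧ Module.finrank F K = s ∧ (minpoly F ξ).natDegree = s ∧ aeval ξ⁻¹ (minpoly F ξ) ≠ 0 ∧
    aeval ξ (minpoly F ξ⁻¹) ≠ 0

theorem cc_of_corner {K : Type*} [Field K] [Algebra F K] [FiniteDimensional F K] {s : ℕ} {ξ : K} (hξ : Gx F s ξ)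
    {B : LinearMap.BilinForm F V} (hB : Alt B) (hN : Nond B) {P Q : Submodule F V}
    (hP : Orth B P P) (hQ : Orth B Q Q) (hPQ : P ⊔ Q = ⊤) {A : P ≃ₗ[F] P} (hA : FF (minpoly F ξ) A)
    {g : V ≃ₗ[F] V} (hg : Iso B g) (hc : ∀ v : P, g v - A v ∈ Q) : CC B (minpoly F ξ) g := by
  obtain ⟨hξ0, hfr, hdeg, c1, c2⟩ := hξ
  have hdeg' : (minpoly F ξ).natDegree = Module.finrank F K := by rw [hdeg, hfr]
  obtain ⟨x, z, hx, hz, hxz⟩ := hA
  have hf₁ := sing_of_aeval hξ0 hdeg' c1 c2 hx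
  have hf₂ : Sing z (minpoly F ξ⁻¹) (minpoly F ξ) := by
    have := sing_inv (sing_of_aeval hξ0 hdeg' c1 c2 hz)
    rwa [inv_inv] at this
  obtain ⟨X, hX, hXx, hXQ⟩ := levi hB hN hP hQ hPQ x
  obtain ⟨Z, hZ, hZz, hZQ⟩ := levi hB hN hP hQ hPQ z
  obtain ⟨a1, a2, -, -⟩ := sing_levi hB hN hQ hPQ hf₁ hX hXx hXQ
  obtain ⟨-, -, b3, b4⟩ := sing_levi hB hN hQ hPQ hf₂ hZ hZz hZQ
  have hXP : ∀ v ∈ P, X v ∈ P := fun v hv => by rw [hXx ⟨v, hv⟩]; exact (x ⟨v, hv⟩).2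
  have hZP : ∀ v ∈ P, Z v ∈ P := fun v hv => by rw [hZz ⟨v, hv⟩]; exact (z ⟨v, hv⟩).2
  have hLX : LT B (minpoly F ξ) X := ⟨hX, P, Q, hP, hQ, hPQ, hXP, hXQ, a1⟩
  have hLZ : LT B (minpoly F ξ) Z := ⟨hZ, Q, P, hQ, hP, by rw [sup_comm]; exact hPQ, hZQ, hZP, b3⟩
  -- `h = g (X Z)⁻¹`
  have hXZP : ∀ v ∈ P, (X * Z) v ∈ P := fun v hv => hXP _ (hZP v hv)
  obtain ⟨n, m, hn, hm, hnm⟩ := c1_factor hB hN hP hQ hPQ (g := g * (X * Z)⁻¹) (hg.mul (hX.mul hZ).inv) (by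
    intro v hv
    have h1 := inv_mem_of_mem hXZP v hv
    have h2 := hc ⟨_, h1⟩
    have h3 : ((A ⟨_, h1⟩ : P) : V) = v := by
      rw [hxz, ← hXx, ← hZz]
      exact app_inv (X * Z) v
    rw [h3] at h2
    exact h2)
  have hgn : g = uni n (skew_sq hn) * uni m (skew_sq hm) * (X * Z) := by
    rw [← hnm]; group
  have hm' := skew_conj hX hXP hm
  have e0 : uni m (skew_sq hm) * X = X * uni (X.symm.conj m) (skew_sq hm') := by
    ext v
    rw [LinearEquiv.mul_apply, LinearEquiv.mul_apply, uni_apply, uni_apply, map_add]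
    congr 1
    exact (X.apply_symm_apply _).symm
  obtain ⟨s, hs, hsX⟩ := sylvester hPQ hX hXQ (minpoly F ξ) a1 a2 hn
  have e1 : uni s (skew_sq hs) * X = uni n (skew_sq hn) * X * uni s (skew_sq hs) := by
    ext v
    simp only [LinearEquiv.mul_apply, uni_apply, map_add]
    have : n (X (s v)) = 0 := hn.2.1 _ (hXQ _ (hs.1 v))
    rw [hsX, this]
    abel
  have hQP : Q ⊔ P = ⊤ := by rw [sup_comm]; exact hPQ
  obtain ⟨t, ht, htZ⟩ := sylvester hQP hZ hZP (minpoly F ξ) b3 b4 hm'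
  have e2 : uni t (skew_sq ht) * Z = uni (X.symm.conj m) (skew_sq hm') * Z * uni t (skew_sq ht) := by
    ext v
    simp only [LinearEquiv.mul_apply, uni_apply, map_add]
    have : (X.symm.conj m) (Z (t v)) = 0 := hm'.2.1 _ (hZP _ (ht.1 v))
    rw [htZ, this]
    abel
  have hui : Iso B (uni s (skew_sq hs)) := skew_iso hQ hs
  have hti : Iso B (uni t (skew_sq ht)) := skew_iso hP ht
  generalize uni n (skew_sq hn) = a at *
  generalize uni m (skew_sq hm) = b at *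
  generalize uni (X.symm.conj m) (skew_sq hm') = b' at *
  generalize uni s (skew_sq hs) = u at *
  generalize uni t (skew_sq ht) = w at *
  have k1 : a * X = u * X * u⁻¹ := by rw [e1]; group
  have k2 : b' * Z = w * Z * w⁻¹ := by rw [e2]; group
  refine ⟨u * X * u⁻¹, w * Z * w⁻¹, hLX.conj hui, hLZ.conj hti, ?_⟩
  rw [← k1, ← k2, hgn]
  calc a * b * (X * Z) = a * (b * X) * Z := by group
    _ = a * (X * b') * Z := by rw [e0]
    _ = _ := by group

/-! ### orthogonal sums -/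

theorem ds_aeval {R S : Submodule F V} (h : IsCompl R S) {x : R ≃ₗ[F] R} {y : S ≃ₗ[F] S} {f : F[X]}
    (hx : ∀ v, aeval (x : Module.End F R) f v = 0) (hy : ∀ v, aeval (y : Module.End F S) f v = 0) :
    aeval ((ds h x y : V ≃ₗ[F] V) : Module.End F V) f = 0 := by
  ext v
  obtain ⟨r, hr, s, hs, rfl⟩ := mem_sup_top h.sup_eq_top v
  have e1 : ∀ v : R, ((ds h x y : V ≃ₗ[F] V) : Module.End F V) v = (x : Module.End F R) v := by
    intro v
    have := ds_apply h x y v 0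
    simpa using this
  have e2 : ∀ v : S, ((ds h x y : V ≃ₗ[F] V) : Module.End F V) v = (y : Module.End F S) v := by
    intro v
    have := ds_apply h x y 0 v
    simpa using this
  have k1 := aeval_restrict e1 f ⟨r, hr⟩
  have k2 := aeval_restrict e2 f ⟨s, hs⟩
  rw [map_add, k1, k2, hx, hy]
  simp

theorem ds_inv {R S : Submodule F V} (h : IsCompl R S) (x : R ≃ₗ[F] R) (y : S ≃ₗ[F] S) :
    (ds h x y)⁻¹ = ds h x⁻¹ y⁻¹ := by
  rw [inv_eq_iff_mul_eq_one]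
  ext v
  obtain ⟨r, hr, s, hs, rfl⟩ := mem_sup_top h.sup_eq_top v
  rw [LinearEquiv.mul_apply]
  have h1 := ds_apply h x⁻¹ y⁻¹ ⟨r, hr⟩ ⟨s, hs⟩
  simp only at h1
  rw [h1, ds_apply, app_inv, app_inv]
  rfl

theorem FF.ds {R S : Submodule F V} (h : IsCompl R S) {x : R ≃ₗ[F] R} {y : S ≃ₗ[F] S} {f : F[X]}
    (hx : FF f x) (hy : FF f y) : FF f (ds h x y) := by
  obtain ⟨a, b, ha, hb, hab⟩ := hx
  obtain ⟨c, d, hc, hd, hcd⟩ := hy
  refine ⟨War.ds h a c, War.ds h b d, ds_aeval h (fun v => by rw [ha]; rfl) (fun v => by rw [hc]; rfl), ?_, ?_⟩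
  · rw [ds_inv]
    exact ds_aeval h (fun v => by rw [hb]; rfl) (fun v => by rw [hd]; rfl)
  · intro v
    obtain ⟨r, hr, s, hs, rfl⟩ := mem_sup_top h.sup_eq_top v
    have h1 := ds_apply h b d ⟨r, hr⟩ ⟨s, hs⟩
    have h2 := ds_apply h x y ⟨r, hr⟩ ⟨s, hs⟩
    simp only at h1 h2
    rw [h1, ds_apply, h2, hab, hcd]

theorem LT.ds {B : LinearMap.BilinForm F V} (hB : Alt B) {R S : Submodule F V} (h : IsCompl R S) (hRS : Orth B R S)
    {x : R ≃ₗ[F] R} {y : S ≃ₗ[F] S} {f : F[X]} (hx : LT (B.restrict R) f x) (hy : LT (B.restrict S) f y) :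
    LT B f (ds h x y) := by
  obtain ⟨hI, P, Q, hP, hQ, hPQ, hXP, hXQ, hf⟩ := hx
  obtain ⟨hI', P', Q', hP', hQ', hPQ', hXP', hXQ', hf'⟩ := hy
  have m1 : ∀ {T : Submodule F R} {v : V}, v ∈ T.map R.subtype → ∃ hv : v ∈ R, (⟨v, hv⟩ : R) ∈ T := by
    rintro T v ⟨w, hw, rfl⟩
    exact ⟨w.2, hw⟩
  have m2 : ∀ {T : Submodule F S} {v : V}, v ∈ T.map S.subtype → ∃ hv : v ∈ S, (⟨v, hv⟩ : S) ∈ T := by
    rintro T v ⟨w, hw, rfl⟩
    exact ⟨w.2, hw⟩
  have o1 : ∀ {T : Submodule F R} {T' : Submodule F S}, Orth (B.restrict R) T T → Orth (B.restrict S) T' T' →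
      Orth B (T.map R.subtype ⊔ T'.map S.subtype) (T.map R.subtype ⊔ T'.map S.subtype) := by
    intro T T' hT hT' v hv w hw
    obtain ⟨a, ha, b, hb, rfl⟩ := Submodule.mem_sup.1 hv
    obtain ⟨c, hc, d, hd, rfl⟩ := Submodule.mem_sup.1 hw
    obtain ⟨ha1, ha2⟩ := m1 ha
    obtain ⟨hb1, hb2⟩ := m2 hb
    obtain ⟨hc1, hc2⟩ := m1 hc
    obtain ⟨hd1, hd2⟩ := m2 hd
    have k1 : B a c = 0 := hT _ ha2 _ hc2
    have k2 : B b d = 0 := hT' _ hb2 _ hd2
    simp only [map_add, LinearMap.add_apply]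
    rw [k1, k2, hRS a ha1 d hd1, hB.zero (hRS c hc1 b hb1)]
    simp
  have dm : ∀ {T : Submodule F R} {T' : Submodule F S}, (∀ v ∈ T, x v ∈ T) → (∀ v ∈ T', y v ∈ T') →
      ∀ v ∈ T.map R.subtype ⊔ T'.map S.subtype, War.ds h x y v ∈ T.map R.subtype ⊔ T'.map S.subtype := by
    intro T T' hT hT' v hv
    obtain ⟨a, ha, b, hb, rfl⟩ := Submodule.mem_sup.1 hv
    obtain ⟨ha1, ha2⟩ := m1 ha
    obtain ⟨hb1, hb2⟩ := m2 hb
    have h1 := ds_apply h x y ⟨a, ha1⟩ ⟨b, hb1⟩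
    simp only at h1
    rw [h1]
    exact Submodule.add_mem_sup ⟨_, hT _ ha2, rfl⟩ ⟨_, hT' _ hb2, rfl⟩
  refine ⟨ds_iso hB h hRS hI hI', P.map R.subtype ⊔ P'.map S.subtype, Q.map R.subtype ⊔ Q'.map S.subtype, o1 hP hP',
    o1 hQ hQ', ?_, dm hXP hXP', dm hXQ hXQ', ?_⟩
  · rw [sup_sup_sup_comm, ← Submodule.map_sup, ← Submodule.map_sup, hPQ, hPQ', Submodule.map_subtype_top,
      Submodule.map_subtype_top, h.sup_eq_top]
  · intro v hv
    obtain ⟨a, ha, b, hb, rfl⟩ := Submodule.mem_sup.1 hv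
    obtain ⟨ha1, ha2⟩ := m1 ha
    obtain ⟨hb1, hb2⟩ := m2 hb
    have e1 : ∀ v : R, ((War.ds h x y : V ≃ₗ[F] V) : Module.End F V) v = (x : Module.End F R) v := by
      intro v
      have := ds_apply h x y v 0
      simpa using this
    have e2 : ∀ v : S, ((War.ds h x y : V ≃ₗ[F] V) : Module.End F V) v = (y : Module.End F S) v := by
      intro v
      have := ds_apply h x y 0 v
      simpa using this
    have k1 := aeval_restrict e1 f ⟨a, ha1⟩
    have k2 := aeval_restrict e2 f ⟨b, hb1⟩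
    simp only at k1 k2
    rw [map_add, k1, k2, hf _ ha2, hf' _ hb2]
    simp

theorem CC.sup {B : LinearMap.BilinForm F V} (hB : Alt B) {R S : Submodule F V} (hRS : Orth B R S) (hR : Nd B R)
    (htop : R ⊔ S = ⊤) {f : F[X]} {g : V ≃ₗ[F] V} (hIR : Inv g R) (hIS : Inv g S)
    (h : CC (B.restrict R) f (gr g R hIR)) (h' : CC (B.restrict S) f (gr g S hIS)) : CC B f g := by
  have hc : IsCompl R S := ⟨disjoint_of_orth hB hRS hR, codisjoint_iff.2 htop⟩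
  obtain ⟨x, y, hx, hy, hxy⟩ := h
  obtain ⟨x', y', hx', hy', hxy'⟩ := h'
  refine ⟨War.ds hc x x', War.ds hc y y', hx.ds hB hc hRS hx', hy.ds hB hc hRS hy', ?_⟩
  ext v
  obtain ⟨r, hr, s, hs, rfl⟩ := mem_sup_top hc.sup_eq_top v
  rw [LinearEquiv.mul_apply]
  have h1 := ds_apply hc y y' ⟨r, hr⟩ ⟨s, hs⟩
  simp only at h1
  rw [h1, ds_apply, map_add]
  have h2 := congrArg (fun t : R ≃ₗ[F] R => (t ⟨r, hr⟩ : V)) hxy
  have h3 := congrArg (fun t : S ≃ₗ[F] S => (t ⟨s, hs⟩ : V)) hxy'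
  simp only [LinearEquiv.mul_apply] at h2 h3
  rw [← h2, ← h3]
  rfl

end

end Cfsg.Agent.H843.TC6
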