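import Cfsg.Agent.H843.TC6.Eng
import Cfsg.Agent.H143.War.MJ

/-!
# S2464, S2452 for `PSp_2n(q)`: factorizations in `GL(P)`

`f = minpoly ξ` of degree `s`.
* `ff_one` : `A = 1`, `dim = s`.
* `ff_mix` : `A = diag (1_a, -1_b)`, `a + b = s`, `a ≥ 1`, `b` even.
* `ff_mix2` : `A = diag (1_a, -1_b)`, `a + b = 2 s`, `a ≥ 2`, `a`, `b` even, `s` odd.
* `ff_J` : `A = diag (1_r, -1_d, J)`, `r + d + 2 = s`, `d` even, `d + 2 ≤ r + 1`, `J² = -1`.
-/

set_option autoImplicit false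
open Polynomial

noncomputable section

namespace Cfsg.Agent.H843.TC6

open Cfsg.Agent.H144 Cfsg.Agent.H144.War

variable {F V K : Type} [Field F] [AddCommGroup V] [Module F V] [FiniteDimensional F V] [Field K] [Algebra F K]
  [FiniteDimensional F K]

omit [FiniteDimensional F K] in
theorem ff_mu {ξ : K} (hξ : ξ ≠ 0) {X : K ≃ₗ[F] K} (hX : aeval (X : Module.End F K) (minpoly F ξ) = 0) :
    FF (minpoly F ξ) (X * (mu F ξ hξ)⁻¹) :=
  ⟨X, (mu F ξ hξ)⁻¹, hX, by rw [inv_inv]; exact aeval_mu ξ hξ, fun v => rfl⟩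

theorem ff_one {s : ℕ} {ξ : K} (hξ : Gx F s ξ) (hV : Module.finrank F V = s) :
    FF (minpoly F ξ) (1 : V ≃ₗ[F] V) := by
  obtain ⟨h0, hK, -⟩ := hξ
  let φ : V ≃ₗ[F] K := LinearEquiv.ofFinrankEq _ _ (by rw [hV, hK])
  refine (ff_mu h0 (X := mu F ξ h0) (aeval_mu ξ h0)).conj φ fun v => ?_
  rw [mul_inv_cancel]
  rfl

theorem isCompl_of_finrank {U W : Submodule F V} {a b : ℕ} (hV : Module.finrank F V = a + b)
    (hU : Module.finrank F U = a) (hW : Module.finrank F W = b) (hUW : U ⊔ W = ⊤) : IsCompl U W := by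
  refine ⟨?_, codisjoint_iff.2 hUW⟩
  rw [disjoint_iff, ← Submodule.finrank_eq_zero (R := F)]
  have h3 := Submodule.finrank_sup_add_finrank_inf_eq U W
  rw [hUW, finrank_top, hV, hU, hW] at h3
  omega

theorem ff_mix (h2 : (2 : F) ≠ 0) {s a b : ℕ} {ξ : K} (hξ : Gx F s ξ) (ha : 1 ≤ a) (hb : Even b) (hab : a + b = s)
    (hV : Module.finrank F V = s) {U W : Submodule F V} (hU : Module.finrank F U = a) (hW : Module.finrank F W = b)
    (hUW : U ⊔ W = ⊤) {A : V ≃ₗ[F] V} (hA1 : ∀ v ∈ U, A v = v) (hA2 : ∀ v ∈ W, A v = -v) : FF (minpoly F ξ) A := by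
  have hcU : IsCompl U W := isCompl_of_finrank (by rw [hV, hab]) hU hW hUW
  rcases Nat.eq_zero_or_pos b with hb0 | hbpos
  · subst hb0
    have hW0 : W = ⊥ := Submodule.finrank_eq_zero.1 hW
    rw [hW0, sup_bot_eq] at hUW
    have h3 : A = 1 := by
      ext v
      exact hA1 v (by rw [hUW]; trivial)
    rw [h3]
    exact ff_one hξ hV
  obtain ⟨h0, hK, hdeg, -, -⟩ := hξ
  have finE : ∀ {W' E : Submodule F K} {w : ℕ}, IsCompl W' E → Module.finrank F W' = w →
      Module.finrank F E = a + b - w := by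
    intro W' E w hc hw
    have := Submodule.finrank_add_eq_of_isCompl hc
    rw [hK, hw] at this
    omega
  rcases Nat.lt_or_ge (a + 1) b with hlt | hge
  · -- `b > a + 1` : use `-A`
    set g := minpoly F ξ with hg
    have hgm : g.Monic := minpoly.monic (Algebra.IsIntegral.isIntegral (R := F) ξ)
    obtain ⟨X, W', hXf, hW', hX1, hX2⟩ := H143.War.Mix.mixCore (r := b) (c := a) ha (by omega) (by rw [hK]; omega) h0
      (by rw [← hg, hdeg]; omega) (f := (-1) ^ (a + b) * g.comp (-Polynomial.X))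
      (by
        have := hgm.neg_one_pow_natDegree_mul_comp_neg_X
        rwa [hdeg, ← hab] at this)
      (by
        have h3 : ((-1 : F[X]) ^ (a + b)) = C ((-1) ^ (a + b)) := by simp
        rw [h3, natDegree_C_mul (pow_ne_zero _ (neg_ne_zero.2 one_ne_zero)), natDegree_comp, natDegree_neg,
          natDegree_X, mul_one, hdeg, ← hab, add_comm])
      (by
        have h3 : ((-1 : F[X]) ^ (a + b)) = C ((-1) ^ (a + b)) := by simp
        rw [h3, coeff_C_mul, coeff_zero_eq_eval_zero, coeff_zero_eq_eval_zero, eval_comp, eval_neg, eval_X, neg_zero,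
          pow_add, hb.neg_one_pow, mul_one])
    have hX : aeval ((ng X : K ≃ₗ[F] K) : Module.End F K) g = 0 := by
      have h3 : ((ng X : K ≃ₗ[F] K) : Module.End F K) = aeval (X : Module.End F K) (-Polynomial.X : F[X]) := by
        rw [map_neg, aeval_X]
        ext v
        rfl
      rw [map_mul] at hXf
      rw [h3, ← aeval_comp]
      have h4 : aeval (X : Module.End F K) ((-1 : F[X]) ^ (a + b)) * aeval (X : Module.End F K) ((-1 : F[X]) ^ (a + b))
          = 1 := by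
        rw [← map_mul, ← mul_pow]
        simp
      calc aeval (X : Module.End F K) (g.comp (-Polynomial.X))
          = (aeval (X : Module.End F K) ((-1 : F[X]) ^ (a + b)) * aeval (X : Module.End F K) ((-1 : F[X]) ^ (a + b))) *
            aeval (X : Module.End F K) (g.comp (-Polynomial.X)) := by rw [h4, one_mul]
        _ = 0 := by rw [mul_assoc, hXf, mul_zero]
    have hA' : ∀ v : K, (ng X * (mu F ξ h0)⁻¹) v = - X (ξ⁻¹ * v) := fun v => rfl
    have k1 : ∀ v ∈ W', (ng X * (mu F ξ h0)⁻¹) v = (-1 : F) • v := by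
      intro v hv
      rw [hA', hX1 _ (by rw [mul_inv_cancel_left₀ h0]; exact hv), mul_inv_cancel_left₀ h0, neg_one_smul]
    have k2 : ∀ v, (ng X * (mu F ξ h0)⁻¹) v + (-1 : F) • v ∈ W' := by
      intro v
      have h3 := W'.neg_mem (hX2 (ξ⁻¹ * v))
      rw [mul_inv_cancel_left₀ h0] at h3
      rw [hA', neg_one_smul, ← neg_add]
      exact h3
    obtain ⟨E, hcE, hEv⟩ := isCompl_of_mod h2 (by ring) k1 k2
    have hfE := finE hcE hW'
    obtain ⟨φ, hφ⟩ := exists_conj_of_split hcU hcE.symm (by rw [hU, hfE]; omega) (by rw [hW, hW']) (A := A) (c₁ := 1)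
      (c₂ := -1) (fun v hv => by rw [one_smul, hA1 v hv]) (fun v hv => by rw [neg_one_smul, hA2 v hv])
      (fun v hv => by rw [hEv v hv, neg_neg]) k1
    exact (ff_mu h0 hX).conj φ hφ
  · obtain ⟨X, W', hXf, hW', hX1, hX2⟩ := H143.War.Mix.mixCore (r := a) (c := b) hbpos (by omega) (by rw [hK, hab]) h0
      (by rw [hdeg, hab]) (f := minpoly F ξ)
      (minpoly.monic (Algebra.IsIntegral.isIntegral (R := F) ξ)) (by rw [hdeg, hab])
      (by rw [hb.neg_one_pow, one_mul])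
    have hA' : ∀ v : K, (X * (mu F ξ h0)⁻¹) v = X (ξ⁻¹ * v) := fun v => rfl
    have k1 : ∀ v ∈ W', (X * (mu F ξ h0)⁻¹) v = (1 : F) • v := by
      intro v hv
      rw [hA', hX1 _ (by rw [mul_inv_cancel_left₀ h0]; exact hv), mul_inv_cancel_left₀ h0, one_smul]
    have k2 : ∀ v, (X * (mu F ξ h0)⁻¹) v + (1 : F) • v ∈ W' := by
      intro v
      have h3 := hX2 (ξ⁻¹ * v)
      rw [mul_inv_cancel_left₀ h0] at h3
      rw [hA', one_smul]
      exact h3
    obtain ⟨E, hcE, hEv⟩ := isCompl_of_mod h2 (by ring) k1 k2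
    have hfE := finE hcE hW'
    obtain ⟨φ, hφ⟩ := exists_conj_of_split hcU hcE (by rw [hU, hW']) (by rw [hW, hfE]; omega) (A := A) (c₁ := 1)
      (c₂ := -1) (fun v hv => by rw [one_smul, hA1 v hv]) (fun v hv => by rw [neg_one_smul, hA2 v hv])
      k1 hEv
    exact (ff_mu h0 hXf).conj φ hφ

/-! ### two blocks -/

/-- a subspace of given dimension -/
theorem exists_le_finrank {W : Submodule F V} {k : ℕ} (hk : k ≤ Module.finrank F W) :
    ∃ W₁ W₂ : Submodule F V, W₁ ≤ W ∧ W₂ ≤ W ∧ W₁ ⊔ W₂ = W ∧ Module.finrank F W₁ = k ∧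
      Module.finrank F W₂ = Module.finrank F W - k := by
  obtain ⟨S, hS⟩ : ∃ S : Submodule F W, Module.finrank F S = k := by
    refine ⟨Submodule.span F (Set.range (Module.finBasis F W ∘ Fin.castLE hk)), ?_⟩
    rw [finrank_span_eq_card ((Module.finBasis F W).linearIndependent.comp _ (Fin.castLE_injective hk)),
      Fintype.card_fin]
  obtain ⟨T, hT⟩ := S.exists_isCompl
  have h1 := Submodule.finrank_add_eq_of_isCompl hT
  refine ⟨S.map W.subtype, T.map W.subtype, Submodule.map_subtype_le W S, Submodule.map_subtype_le W T, ?_, ?_, ?_⟩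
  · rw [← Submodule.map_sup, hT.sup_eq_top, Submodule.map_subtype_top]
  · rw [Submodule.finrank_map_subtype_eq, hS]
  · rw [Submodule.finrank_map_subtype_eq]
    omega

theorem ff_ds {S T : Submodule F V} (h : IsCompl S T) {A : V ≃ₗ[F] V} (hS : ∀ v ∈ S, A v ∈ S) (hT : ∀ v ∈ T, A v ∈ T)
    {f : F[X]} (h1 : FF f (gr A S hS)) (h2 : FF f (gr A T hT)) : FF f A := by
  have e : A = War.ds h (gr A S hS) (gr A T hT) := by
    ext v
    obtain ⟨r, hr, s, hs, rfl⟩ := mem_sup_top h.sup_eq_top v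
    have h3 := ds_apply h (gr A S hS) (gr A T hT) ⟨r, hr⟩ ⟨s, hs⟩
    simp only at h3
    rw [h3, map_add]
    rfl
  rw [e]
  exact h1.ds h h2

theorem ff_mix2 (h2 : (2 : F) ≠ 0) {s a b : ℕ} {ξ : K} (hξ : Gx F s ξ) (hs : Odd s) (ha : 2 ≤ a) (hb : Even b)
    (hab : a + b = 2 * s) (hV : Module.finrank F V = 2 * s) {U W : Submodule F V} (hU : Module.finrank F U = a)
    (hW : Module.finrank F W = b) (hUW : U ⊔ W = ⊤) {A : V ≃ₗ[F] V} (hA1 : ∀ v ∈ U, A v = v)
    (hA2 : ∀ v ∈ W, A v = -v) : FF (minpoly F ξ) A := by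
  have hcU : IsCompl U W := isCompl_of_finrank (by rw [hV, hab]) hU hW hUW
  obtain ⟨b₁, b₂, h1e, hb₁s, hb₂s, hbb⟩ : ∃ b₁ b₂ : ℕ, Even b₁ ∧ b₁ + 1 ≤ s ∧ b₂ + 1 ≤ s ∧ b₁ + b₂ = b := by
    obtain ⟨t, ht⟩ := hs
    obtain ⟨c, hc⟩ := hb
    rcases Nat.lt_or_ge b s with h | h
    · exact ⟨b, 0, ⟨c, hc⟩, by omega, by omega, by omega⟩
    · exact ⟨s - 1, b - (s - 1), ⟨t, by omega⟩, by omega, by omega, by omega⟩
  have h2e : Even b₂ := by
    have : Even (b₁ + b₂) := by rw [hbb]; exact hb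
    exact (Nat.even_add.1 this).1 h1e
  obtain ⟨W₁, W₂, w1, w2, w3, w4, w5⟩ := exists_le_finrank (W := W) (k := b₁) (by omega)
  obtain ⟨U₁, U₂, u1, u2, u3, u4, u5⟩ := exists_le_finrank (W := U) (k := s - b₁) (by omega)
  have hd : ∀ {S T : Submodule F V}, S ≤ U → T ≤ W → Module.finrank F ↥(S ⊔ T) = Module.finrank F S + Module.finrank F T := by
    intro S T hS hT
    have h3 := Submodule.finrank_sup_add_finrank_inf_eq S T
    have h4 : S ⊓ T = ⊥ := (hcU.disjoint.mono hS hT).eq_bot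
    rw [h4, finrank_bot] at h3
    omega
  have hinv : ∀ {S T : Submodule F V}, S ≤ U → T ≤ W → ∀ v ∈ S ⊔ T, A v ∈ S ⊔ T := by
    intro S T hS hT v hv
    obtain ⟨x, hx, y, hy, rfl⟩ := Submodule.mem_sup.1 hv
    rw [map_add, hA1 x (hS hx), hA2 y (hT hy)]
    exact Submodule.add_mem_sup hx (T.neg_mem hy)
  have key : ∀ {S T : Submodule F V} (hS : S ≤ U) (hT : T ≤ W) {a' b' : ℕ}, Module.finrank F S = a' →
      Module.finrank F T = b' → a' + b' = s → 1 ≤ a' → Even b' → FF (minpoly F ξ) (gr A (S ⊔ T) (hinv hS hT)) := by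
    intro S T hS hT a' b' hSa hTb hs' ha' hb'
    have hle : ∀ v : ↥(S ⊔ T), v ∈ S.comap (S ⊔ T).subtype ⊔ T.comap (S ⊔ T).subtype := by
      intro v
      obtain ⟨u, hu, w, hw, huw⟩ := Submodule.mem_sup.1 v.2
      have e1 : v = (⟨u, Submodule.mem_sup_left hu⟩ : ↥(S ⊔ T)) + ⟨w, Submodule.mem_sup_right hw⟩ := Subtype.ext huw.symm
      rw [e1]
      exact Submodule.add_mem_sup hu hw
    refine ff_mix h2 hξ ha' hb' hs' (by rw [hd hS hT, hSa, hTb, hs']) (U := S.comap (S ⊔ T).subtype)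
      (W := T.comap (S ⊔ T).subtype) ?_ ?_ (eq_top_iff.2 fun v _ => hle v) ?_ ?_
    · rw [(Submodule.comapSubtypeEquivOfLe le_sup_left).finrank_eq, hSa]
    · rw [(Submodule.comapSubtypeEquivOfLe le_sup_right).finrank_eq, hTb]
    · intro v hv
      exact Subtype.ext (hA1 v (hS hv))
    · intro v hv
      exact Subtype.ext (hA2 v (hT hv))
  have hc : IsCompl (U₁ ⊔ W₁) (U₂ ⊔ W₂) := by
    apply isCompl_of_finrank (a := s) (b := s) (by omega)
    · rw [hd u1 w1]; omega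
    · rw [hd u2 w2]; omega
    · rw [sup_sup_sup_comm, u3, w3, hUW]
  exact ff_ds hc (hinv u1 w1) (hinv u2 w2) (key u1 w1 u4 w4 (by omega) (by omega) h1e)
    (key u2 w2 u5 w5 (by omega) (by omega) (by rw [show Module.finrank F W - b₁ = b₂ by omega]; exact h2e))

/-! ### the block with `J` -/

theorem exists_conj_J {r d : ℕ} {M : Type} [AddCommGroup M] [Module F M] [FiniteDimensional F M]
    (hV : Module.finrank F V = r + d + 2) (hM : Module.finrank F M = r + d + 2)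
    {U W : Submodule F V} {U' W' : Submodule F M} (hU : Module.finrank F U = r) (hW : Module.finrank F W = d)
    (hU' : Module.finrank F U' = r) (hW' : Module.finrank F W' = d) {p₁ p₂ : V} {y₁ y₂ : M}
    (htop : U ⊔ W ⊔ Submodule.span F {p₁, p₂} = ⊤) (htop' : U' ⊔ W' ⊔ Submodule.span F {y₁, y₂} = ⊤)
    {A : V ≃ₗ[F] V} {A' : M ≃ₗ[F] M} (hA1 : ∀ v ∈ U, A v = v) (hA2 : ∀ v ∈ W, A v = -v) (hA3 : A p₁ = p₂)
    (hA4 : A p₂ = -p₁) (hA1' : ∀ v ∈ U', A' v = v) (hA2' : ∀ v ∈ W', A' v = -v) (hA3' : A' y₁ = y₂)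
    (hA4' : A' y₂ = -y₁) : ∃ φ : V ≃ₗ[F] M, ∀ v, φ (A v) = A' (φ v) := by
  have mk : ∀ {L : Type} [AddCommGroup L] [Module F L] [FiniteDimensional F L] (S T : Submodule F L) (p q : L),
      Module.finrank F L = r + d + 2 → Module.finrank F S = r → Module.finrank F T = d →
      S ⊔ T ⊔ Submodule.span F {p, q} = ⊤ →
      ∃ φ : (S × T × F × F) ≃ₗ[F] L, ∀ (u : S) (w : T) (x y : F), φ (u, w, x, y) = u + (w + (x • p + y • q)) := by
    intro L _ _ _ S T p q hL hS hT htop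
    let τ : (S × T × F × F) →ₗ[F] L := S.subtype.coprod (T.subtype.coprod
      ((LinearMap.toSpanSingleton F L p).coprod (LinearMap.toSpanSingleton F L q)))
    have hτ : ∀ (u : S) (w : T) (x y : F), τ (u, w, x, y) = u + (w + (x • p + y • q)) := fun u w x y => rfl
    have hsurj : Function.Surjective τ := by
      intro v
      obtain ⟨u, hu, w, hw, rfl⟩ := mem_sup_top htop v
      obtain ⟨u1, hu1, u2, hu2, rfl⟩ := Submodule.mem_sup.1 hu
      obtain ⟨x, y, rfl⟩ := Submodule.mem_span_pair.1 hw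
      exact ⟨(⟨u1, hu1⟩, ⟨u2, hu2⟩, x, y), by rw [hτ, add_assoc]⟩
    have hfin : Module.finrank F (S × T × F × F) = Module.finrank F L := by
      rw [Module.finrank_prod, Module.finrank_prod, Module.finrank_prod, Module.finrank_self, hS, hT, hL]
      omega
    have hinj : Function.Injective τ := by
      have h1 := LinearMap.finrank_range_add_finrank_ker τ
      rw [LinearMap.range_eq_top.2 hsurj, finrank_top, ← hfin] at h1
      have h2 : Module.finrank F (LinearMap.ker τ) = 0 := by omega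
      exact LinearMap.ker_eq_bot.1 (Submodule.finrank_eq_zero.1 h2)
    exact ⟨LinearEquiv.ofBijective τ ⟨hinj, hsurj⟩, hτ⟩
  obtain ⟨φ₁, h1⟩ := mk U W p₁ p₂ hV hU hW htop
  obtain ⟨φ₂, h2⟩ := mk U' W' y₁ y₂ hM hU' hW' htop'
  let e₁ : U ≃ₗ[F] U' := LinearEquiv.ofFinrankEq _ _ (by rw [hU, hU'])
  let e₂ : W ≃ₗ[F] W' := LinearEquiv.ofFinrankEq _ _ (by rw [hW, hW'])
  let E : (U × W × F × F) ≃ₗ[F] (U' × W' × F × F) := e₁.prodCongr (e₂.prodCongr (LinearEquiv.refl F (F × F)))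
  refine ⟨φ₁.symm.trans (E.trans φ₂), fun v => ?_⟩
  obtain ⟨⟨u, w, x, y⟩, rfl⟩ := φ₁.surjective v
  have e3 : A (φ₁ (u, w, x, y)) = φ₁ (u, -w, -y, x) := by
    rw [h1, h1, map_add, map_add, map_add, map_smul, map_smul, hA1 _ u.2, hA2 _ w.2, hA3, hA4]
    push_cast
    module
  have e4 : ∀ (u : U') (w : W') (x y : F), A' (φ₂ (u, w, x, y)) = φ₂ (u, -w, -y, x) := by
    intro u w x y
    rw [h2, h2, map_add, map_add, map_add, map_smul, map_smul, hA1' _ u.2, hA2' _ w.2, hA3', hA4']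
    push_cast
    module
  rw [e3]
  change φ₂ (E (φ₁.symm (φ₁ (u, -w, -y, x)))) = A' (φ₂ (E (φ₁.symm (φ₁ (u, w, x, y)))))
  rw [φ₁.symm_apply_apply, φ₁.symm_apply_apply]
  change φ₂ (e₁ u, e₂ (-w), -y, x) = A' (φ₂ (e₁ u, e₂ w, x, y))
  rw [e4, map_neg]

theorem ff_J (h2 : (2 : F) ≠ 0) {s r d : ℕ} {ξ : K} (hξ : Gx F s ξ) (hd : Even d) (hrd : d + 1 ≤ r)
    (hs : r + d + 2 = s) (hV : Module.finrank F V = s) {U W : Submodule F V} (hU : Module.finrank F U = r)
    (hW : Module.finrank F W = d) {p₁ p₂ : V} (htop : U ⊔ W ⊔ Submodule.span F {p₁, p₂} = ⊤)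
    {A : V ≃ₗ[F] V} (hA1 : ∀ v ∈ U, A v = v) (hA2 : ∀ v ∈ W, A v = -v) (hA3 : A p₁ = p₂) (hA4 : A p₂ = -p₁) :
    FF (minpoly F ξ) A := by
  obtain ⟨h0, hK, hdeg, -, -⟩ := hξ
  obtain ⟨X, W₁, W₂, y, hXf, hW₁, hW₂, hX1, hX2, hsup, hX3⟩ := H143.War.MJ.mjCore (r := r) (c := d + 2) (by omega)
    (by omega) (by rw [hK]; omega) h0 (by rw [hdeg]; omega) (f := minpoly F ξ)
    (minpoly.monic (Algebra.IsIntegral.isIntegral (R := F) ξ)) (by rw [hdeg]; omega)
    (by rw [pow_add, hd.neg_one_pow]; norm_num) 0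
  rw [Nat.add_sub_cancel] at hW₂
  rw [zero_smul, sub_zero] at hX3
  set A' := X * (mu F ξ h0)⁻¹ with hA'
  have hA'v : ∀ v : K, A' v = X (ξ⁻¹ * v) := fun v => rfl
  have k1 : ∀ v ∈ W₁, A' v = v := by
    intro v hv
    rw [hA'v, hX1 _ (by rw [mul_inv_cancel_left₀ h0]; exact hv), mul_inv_cancel_left₀ h0]
  have k2 : ∀ v ∈ W₂, A' v = -v := by
    intro v hv
    rw [hA'v, hX2 _ (by rw [mul_inv_cancel_left₀ h0]; exact hv), mul_inv_cancel_left₀ h0]
  have hAA : ∀ v ∈ W₁ ⊔ W₂, A' (A' v) = v := by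
    intro v hv
    obtain ⟨a, ha, b, hb, rfl⟩ := Submodule.mem_sup.1 hv
    rw [map_add, k1 a ha, k2 b hb, map_add, k1 a ha, map_neg, k2 b hb, neg_neg]
  have hAW : ∀ v ∈ W₁ ⊔ W₂, A' v ∈ W₁ ⊔ W₂ := by
    intro v hv
    obtain ⟨a, ha, b, hb, rfl⟩ := Submodule.mem_sup.1 hv
    rw [map_add, k1 a ha, k2 b hb]
    exact Submodule.add_mem_sup ha (W₂.neg_mem hb)
  obtain ⟨w, hw⟩ : ∃ w, w = A' (A' y) + y := ⟨_, rfl⟩
  have hwm : w ∈ W₁ ⊔ W₂ := by rw [hw]; exact hX3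
  have hw2 : (2 : F)⁻¹ • w ∈ W₁ ⊔ W₂ := Submodule.smul_mem _ _ hwm
  set y' := y - (2 : F)⁻¹ • w with hy'
  have hy2 : A' (A' y') = -y' := by
    have h3 := hAA _ hw2
    have h4 : A' (A' y) = w - y := by rw [hw]; abel
    rw [hy', map_sub, map_sub, h3, h4]
    have h5 : w = (2 : F)⁻¹ • w + (2 : F)⁻¹ • w := by
      rw [← two_smul F ((2 : F)⁻¹ • w), smul_smul, mul_inv_cancel₀ h2, one_smul]
    nth_rewrite 1 [h5]
    abel
  have htop' : W₁ ⊔ W₂ ⊔ Submodule.span F {y', A' y'} = ⊤ := by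
    rw [eq_top_iff, ← hsup]
    refine sup_le le_sup_left ?_
    rw [Submodule.span_le]
    rintro v hv
    rcases hv with rfl | hv
    · have e1 : v = (2 : F)⁻¹ • w + y' := by rw [hy']; abel
      rw [e1]
      exact Submodule.add_mem_sup hw2 (Submodule.subset_span (by simp))
    · rw [Set.mem_singleton_iff] at hv
      subst hv
      have e1 : A' y = A' ((2 : F)⁻¹ • w) + A' y' := by rw [← map_add, hy']; congr 1; abel
      change A' y ∈ _
      rw [e1]
      exact Submodule.add_mem_sup (hAW _ hw2) (Submodule.subset_span (by simp))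
  obtain ⟨φ, hφ⟩ := exists_conj_J (r := r) (d := d) (by omega) (by rw [hK]; omega) hU hW hW₁ hW₂ htop htop' hA1 hA2 hA3
    hA4 k1 k2 rfl hy2
  exact (ff_mu h0 hXf).conj φ hφ

end Cfsg.Agent.H843.TC6
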