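import Cfsg.Agent.H843.TC6.Fac
import Cfsg.Agent.H144.War.Final
import Cfsg.Agent.H140.War.Refl
import Cfsg.Agent.H557.War.JCorner

/-!
# S2464, S2452 for `PSp_2n(q)`, `q` odd: every isometry `g` or its negative is `X Z`

`f = minpoly ξ` of degree `s`, `dim V = 2 n`; `s = n` with `n` odd or `4 ∣ n`, or `n = 2 s` with `s` odd, `s ≥ 3`.
-/

set_option autoImplicit false
open Polynomial

noncomputable section

namespace Cfsg.Agent.H843.TC6

open Cfsg.Agent.H144 Cfsg.Agent.H144.War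

variable {F V K : Type} [Field F] [AddCommGroup V] [Module F V] [FiniteDimensional F V] [Field K] [Algebra F K]
  [FiniteDimensional F K]

theorem cc_mix (h2 : (2 : F) ≠ 0) {s n a b : ℕ} {ξ : K} (hξ : Gx F s ξ) (hsn : s = n ∨ (Odd s ∧ n = 2 * s))
    {B : LinearMap.BilinForm F V} (hB : Alt B) (hN : Nond B) (ha : 1 ≤ a) (hb : Even b) (hab : a + b = n)
    (hV : Module.finrank F V = 2 * n) {g : V ≃ₗ[F] V} (hg : Iso B g) (h : Mix B g a b ⊤) :
    CC B (minpoly F ξ) g := by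
  obtain ⟨U, W, Q, h1, h3, h4, h5, h6, h7, h8⟩ := h
  have h9 := finrank_two hB hN h1 h3 h4
  have hle : ∀ v : ↥(U ⊔ W), v ∈ U.comap (U ⊔ W).subtype ⊔ W.comap (U ⊔ W).subtype := by
    intro v
    obtain ⟨u, hu, w, hw, huw⟩ := Submodule.mem_sup.1 v.2
    have e1 : v = (⟨u, Submodule.mem_sup_left hu⟩ : ↥(U ⊔ W)) + ⟨w, Submodule.mem_sup_right hw⟩ := Subtype.ext huw.symm
    rw [e1]
    exact Submodule.add_mem_sup hu hw
  have hU : Module.finrank F (U.comap (U ⊔ W).subtype) = a := by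
    rw [(Submodule.comapSubtypeEquivOfLe le_sup_left).finrank_eq, h5]
  have hW : Module.finrank F (W.comap (U ⊔ W).subtype) = b := by
    rw [(Submodule.comapSubtypeEquivOfLe le_sup_right).finrank_eq, h6]
  have htop : U.comap (U ⊔ W).subtype ⊔ W.comap (U ⊔ W).subtype = ⊤ := eq_top_iff.2 (fun v _ => hle v)
  have hP : Module.finrank F ↥(U ⊔ W) = a + b := by omega
  have hc : IsCompl (U.comap (U ⊔ W).subtype) (W.comap (U ⊔ W).subtype) := isCompl_of_finrank hP hU hW htop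
  let A : ↥(U ⊔ W) ≃ₗ[F] ↥(U ⊔ W) := War.ds hc 1 (LinearEquiv.neg F)
  have hA1 : ∀ v ∈ U.comap (U ⊔ W).subtype, A v = v := by
    intro v hv
    have := ds_apply hc 1 (LinearEquiv.neg F) ⟨v, hv⟩ 0
    simpa using this
  have hA2 : ∀ v ∈ W.comap (U ⊔ W).subtype, A v = -v := by
    intro v hv
    have := ds_apply hc 1 (LinearEquiv.neg F) 0 ⟨v, hv⟩
    simpa using this
  have hFF : FF (minpoly F ξ) A := by
    rcases hsn with rfl | ⟨hs, rfl⟩
    · exact ff_mix h2 hξ ha hb hab (by rw [hP, hab]) hU hW htop hA1 hA2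
    · refine ff_mix2 h2 hξ hs ?_ hb hab (by rw [hP, hab]) hU hW htop hA1 hA2
      obtain ⟨c, hc⟩ := hb
      omega
  refine cc_of_corner hξ hB hN h1 h3 h4 (A := A) hFF hg ?_
  intro v
  obtain ⟨u, hu, w, hw, rfl⟩ := Submodule.mem_sup.1 (hle v)
  rw [map_add, hA1 u hu, hA2 w hw]
  have e1 : g ((u + w : ↥(U ⊔ W)) : V) - ((u + -w : ↥(U ⊔ W)) : V) = (g u - u) + (g w + w) := by
    push_cast
    rw [map_add]
    abel
  rw [e1]
  exact Q.add_mem (h7 u hu) (h8 w hw)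

omit [FiniteDimensional F V] in
theorem exists_JJ [FiniteDimensional F V] {r d : ℕ} (hV : Module.finrank F V = r + d + 2) {U W : Submodule F V}
    (hU : Module.finrank F U = r) (hW : Module.finrank F W = d) {p₁ p₂ : V}
    (htop : U ⊔ W ⊔ Submodule.span F {p₁, p₂} = ⊤) :
    ∃ A : V ≃ₗ[F] V, (∀ v ∈ U, A v = v) ∧ (∀ v ∈ W, A v = -v) ∧ A p₁ = p₂ ∧ A p₂ = -p₁ := by
  let T : (U × W × F × F) →ₗ[F] V := U.subtype.coprod (W.subtype.coprod
    ((LinearMap.toSpanSingleton F V p₁).coprod (LinearMap.toSpanSingleton F V p₂)))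
  have hT : ∀ (u : U) (w : W) (x y : F), T (u, w, x, y) = u + (w + (x • p₁ + y • p₂)) := fun u w x y => rfl
  have hsurj : Function.Surjective T := by
    intro v
    obtain ⟨u, hu, w, hw, rfl⟩ := mem_sup_top htop v
    obtain ⟨u1, hu1, u2, hu2, rfl⟩ := Submodule.mem_sup.1 hu
    obtain ⟨x, y, rfl⟩ := Submodule.mem_span_pair.1 hw
    exact ⟨(⟨u1, hu1⟩, ⟨u2, hu2⟩, x, y), by rw [hT, add_assoc]⟩
  have hfin : Module.finrank F (U × W × F × F) = Module.finrank F V := by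
    rw [Module.finrank_prod, Module.finrank_prod, Module.finrank_prod, Module.finrank_self, hU, hW, hV]
    omega
  have hinj : Function.Injective T := by
    have h1 := LinearMap.finrank_range_add_finrank_ker T
    rw [LinearMap.range_eq_top.2 hsurj, finrank_top, ← hfin] at h1
    have h2 : Module.finrank F (LinearMap.ker T) = 0 := by omega
    exact LinearMap.ker_eq_bot.1 (Submodule.finrank_eq_zero.1 h2)
  let φ : (U × W × F × F) ≃ₗ[F] V := LinearEquiv.ofBijective T ⟨hinj, hsurj⟩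
  have hφ : ∀ (u : U) (w : W) (x y : F), φ (u, w, x, y) = u + (w + (x • p₁ + y • p₂)) := fun u w x y => rfl
  let j : (F × F) ≃ₗ[F] (F × F) := LinearEquiv.ofLinearMap
    ((-LinearMap.snd F F F).prod (LinearMap.fst F F F)) ((LinearMap.snd F F F).prod (-LinearMap.fst F F F))
    (by ext <;> simp) (by ext <;> simp)
  let E : (U × W × F × F) ≃ₗ[F] (U × W × F × F) :=
    (LinearEquiv.refl F U).prodCongr ((LinearEquiv.neg F).prodCongr j)
  let A : V ≃ₗ[F] V := tr φ.symm E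
  have hA : ∀ (u : U) (w : W) (x y : F), A (u + (w + (x • p₁ + y • p₂))) = u + (-w + (-y • p₁ + x • p₂)) := by
    intro u w x y
    rw [← hφ]
    change φ (E (φ.symm (φ (u, w, x, y)))) = _
    rw [φ.symm_apply_apply]
    exact (hφ u (-w) (-y) x)
  refine ⟨A, fun v hv => ?_, fun v hv => ?_, ?_, ?_⟩
  · have := hA ⟨v, hv⟩ 0 0 0
    simpa using this
  · have := hA 0 ⟨v, hv⟩ 0 0
    simpa using this
  · have := hA 0 0 1 0
    simpa using this
  · have := hA 0 0 0 1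
    simpa using this

theorem cc_j [Finite F] (h2 : (2 : F) ≠ 0) {s r d : ℕ} {ξ : K} (hξ : Gx F s ξ) (hd : Even d) (hrd : d + 1 ≤ r)
    (hs : r + d + 2 = s) {B : LinearMap.BilinForm F V} (hB : Alt B) (hN : Nond B) {g : V ≃ₗ[F] V} (hg : Iso B g)
    {R' R₁ : Submodule F V} (hR' : Module.finrank F R' = 2 * (r + 1)) (hR₁ : Module.finrank F R₁ = 2 * (d + 1))
    (hN' : Nd B R') (hN₁ : Nd B R₁) (ho : Orth B R' R₁) (htop : R' ⊔ R₁ = ⊤) (h1 : ∀ v ∈ R', g v = v)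
    (h3 : ∀ v ∈ R₁, g v = -v) : CC B (minpoly F ξ) g := by
  obtain ⟨S1, hS1, hS1N, hS1f⟩ := exists_sub hB hN₁ hR₁ 1 (by omega)
  obtain ⟨S2, hS2, hS12, hS12s, hS2N, hS2f, -⟩ := split_off hB hS1 hS1N hN₁
  have oRS : ∀ {T T' : Submodule F V}, T ≤ R' → T' ≤ R₁ → Orth B T T' := fun h4 h5 x hx y hy =>
    ho x (h4 hx) y (h5 hy)
  have oR1 : Orth B R' S1 := oRS le_rfl hS1
  have hIW : Inv g (R' ⊔ S1) := by
    refine Inv.sup (fun v hv => ?_) (fun v hv => ?_)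
    · rw [h1 v hv]; exact hv
    · rw [h3 v (hS1 hv)]; exact S1.neg_mem hv
  have hWN : Nd B (R' ⊔ S1) := Nd.sup hB oR1 hN' hS1N
  have oW2 : Orth B (R' ⊔ S1) S2 := by
    intro x hx y hy
    obtain ⟨a, ha, b, hb, rfl⟩ := Submodule.mem_sup.1 hx
    rw [map_add, LinearMap.add_apply, ho a ha y (hS2 hy), hS12 b hb y hy, add_zero]
  have htopW : R' ⊔ S1 ⊔ S2 = ⊤ := by rw [sup_assoc, hS12s, htop]
  -- the corner in `R' ⊔ S1`
  obtain ⟨P, Q, U, p₁, hp₁, p₂, hp₂, hP, hQ, hPQ, hUP, hU, hsup, hgU, hg1, hg2⟩ :=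
    H557.War.jcorner (V := ↥(R' ⊔ S1)) h2 (restrict_alt hB _) (restrict_nond hWN) (gr_iso hg _ hIW) (s := r + 2)
      (R' := R'.comap (R' ⊔ S1).subtype) (R₁ := S1.comap (R' ⊔ S1).subtype) (by omega)
      (by rw [(Submodule.comapSubtypeEquivOfLe le_sup_left).finrank_eq, hR']; omega)
      (by rw [(Submodule.comapSubtypeEquivOfLe le_sup_right).finrank_eq, hS1f])
      (fun x hx y hy => oR1 x hx y hy)
      (by
        rw [eq_top_iff]
        intro v _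
        obtain ⟨x, hx, y, hy, hxy⟩ := Submodule.mem_sup.1 v.2
        have e1 : v = (⟨x, Submodule.mem_sup_left hx⟩ : ↥(R' ⊔ S1)) + ⟨y, Submodule.mem_sup_right hy⟩ :=
          Subtype.ext hxy.symm
        rw [e1]
        exact Submodule.add_mem_sup hx hy)
      (fun v hv => Subtype.ext (h1 v hv)) (fun v hv => Subtype.ext (h3 v (hS1 hv)))
  rw [Nat.add_sub_cancel] at hU
  obtain ⟨P₂, Q₂, k1, k2, k3, k4⟩ := exists_lag hB hS2N (ng_iso hg) (fun v hv => by rw [ng_apply, h3 v (hS2 hv), neg_neg])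
  have hP₂S : P₂ ≤ S2 := by rw [← k3]; exact le_sup_left
  have hQ₂S : Q₂ ≤ S2 := by rw [← k3]; exact le_sup_right
  have mW : ∀ T : Submodule F ↥(R' ⊔ S1), T.map (R' ⊔ S1).subtype ≤ R' ⊔ S1 := fun T => Submodule.map_subtype_le _ T
  have oM : ∀ {T : Submodule F ↥(R' ⊔ S1)} {T' : Submodule F V}, Orth (B.restrict (R' ⊔ S1)) T T → Orth B T' T' →
      T' ≤ S2 → Orth B (T.map (R' ⊔ S1).subtype ⊔ T') (T.map (R' ⊔ S1).subtype ⊔ T') := by
    intro T T' hT hT' hT'S v hv w hw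
    obtain ⟨a, ha, b, hb, rfl⟩ := Submodule.mem_sup.1 hv
    obtain ⟨c, hc, d, hd, rfl⟩ := Submodule.mem_sup.1 hw
    have ha' := mW _ ha
    have hc' := mW _ hc
    obtain ⟨a, ha, rfl⟩ := ha
    obtain ⟨c, hc, rfl⟩ := hc
    have k1 : B (a : V) (c : V) = 0 := hT a ha c hc
    simp only [map_add, LinearMap.add_apply, Submodule.subtype_apply]
    rw [k1, hT' b hb d hd, oW2 _ a.2 _ (hT'S hd), hB.zero (oW2 _ c.2 _ (hT'S hb))]
    simp
  set P0 := P.map (R' ⊔ S1).subtype ⊔ P₂ with hP0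
  set Q0 := Q.map (R' ⊔ S1).subtype ⊔ Q₂ with hQ0
  have hP0o : Orth B P0 P0 := oM hP k1 hP₂S
  have hQ0o : Orth B Q0 Q0 := oM hQ k2 hQ₂S
  have hPQ0 : P0 ⊔ Q0 = ⊤ := by
    rw [hP0, hQ0, sup_sup_sup_comm, ← Submodule.map_sup, hPQ, Submodule.map_subtype_top, k3, htopW]
  have hdimV : Module.finrank F V = 2 * (r + d + 2) := by
    have h5 := finrank_sup_of_orth hB oW2 hWN le_rfl le_rfl
    have h6 := finrank_sup_of_orth hB oR1 hN' le_rfl le_rfl
    rw [htopW, finrank_top, h6, hR', hS1f] at h5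
    omega
  have hP0f : Module.finrank F P0 = r + d + 2 := by
    have := finrank_two hB hN hP0o hQ0o hPQ0
    omega
  have hP₂f : Module.finrank F P₂ = d := by
    have := finrank_lag hB hS2N k1 k2 k3
    omega
  have q1 : ((p₁ : ↥(R' ⊔ S1)) : V) ∈ P0 := Submodule.mem_sup_left ⟨p₁, hp₁, rfl⟩
  have q2 : ((p₂ : ↥(R' ⊔ S1)) : V) ∈ P0 := Submodule.mem_sup_left ⟨p₂, hp₂, rfl⟩
  have hUm : U.map (R' ⊔ S1).subtype ≤ P0 := (Submodule.map_mono hUP).trans le_sup_left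
  have hPm : P₂ ≤ P0 := le_sup_right
  have htop' : (U.map (R' ⊔ S1).subtype).comap P0.subtype ⊔ P₂.comap P0.subtype ⊔
      Submodule.span F {(⟨_, q1⟩ : P0), ⟨_, q2⟩} = ⊤ := by
    rw [eq_top_iff]
    intro v _
    obtain ⟨a, ha, b, hb, hab⟩ := Submodule.mem_sup.1 v.2
    obtain ⟨a, ha, rfl⟩ := ha
    have ha' : a ∈ U ⊔ Submodule.span F {p₁, p₂} := by rw [hsup]; exact ha
    obtain ⟨u, hu, w, hw, huw⟩ := Submodule.mem_sup.1 ha'
    obtain ⟨x, y, rfl⟩ := Submodule.mem_span_pair.1 hw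
    have e1 : v = (⟨(u : V), hUm ⟨u, hu, rfl⟩⟩ : P0) + ⟨b, hPm hb⟩ +
        (x • (⟨_, q1⟩ : P0) + y • (⟨_, q2⟩ : P0)) := by
      apply Subtype.ext
      rw [← hab, ← huw]
      push_cast
      simp only [map_add, map_smul, Submodule.subtype_apply]
      abel
    rw [e1]
    exact Submodule.add_mem_sup (Submodule.add_mem_sup ⟨u, hu, rfl⟩ hb) (Submodule.mem_span_pair.2 ⟨x, y, rfl⟩)
  have hU' : Module.finrank F ((U.map (R' ⊔ S1).subtype).comap P0.subtype) = r := by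
    rw [(Submodule.comapSubtypeEquivOfLe hUm).finrank_eq, Submodule.finrank_map_subtype_eq, hU]
  have hW' : Module.finrank F (P₂.comap P0.subtype) = d := by
    rw [(Submodule.comapSubtypeEquivOfLe hPm).finrank_eq, hP₂f]
  obtain ⟨A, hA1, hA2, hA3, hA4⟩ := exists_JJ hP0f hU' hW' htop'
  have hFF : FF (minpoly F ξ) A := ff_J h2 hξ hd hrd hs (by rw [hP0f, hs]) hU' hW' htop' hA1 hA2 hA3 hA4
  have hQm : ∀ v : ↥(R' ⊔ S1), v ∈ Q → (v : V) ∈ Q0 := fun v hv => Submodule.mem_sup_left ⟨v, hv, rfl⟩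
  refine cc_of_corner hξ hB hN hP0o hQ0o hPQ0 hFF hg ?_
  intro v
  have hv : v ∈ (U.map (R' ⊔ S1).subtype).comap P0.subtype ⊔ P₂.comap P0.subtype ⊔
      Submodule.span F {(⟨_, q1⟩ : P0), ⟨_, q2⟩} := by rw [htop']; trivial
  obtain ⟨uw, huw, t, ht, rfl⟩ := Submodule.mem_sup.1 hv
  obtain ⟨u, hu, w, hw, rfl⟩ := Submodule.mem_sup.1 huw
  obtain ⟨x, y, rfl⟩ := Submodule.mem_span_pair.1 ht
  have e1 : g ((u + w + (x • (⟨_, q1⟩ : P0) + y • (⟨_, q2⟩ : P0)) : P0) : V) -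
      ((A (u + w + (x • (⟨_, q1⟩ : P0) + y • (⟨_, q2⟩ : P0))) : P0) : V) =
      (g u - u) + (g w + w) + (x • (g (p₁ : V) - (p₂ : V)) + y • (g (p₂ : V) + (p₁ : V))) := by
    rw [map_add A, map_add A, hA1 u hu, hA2 w hw, map_add A, map_smul A, map_smul A, hA3, hA4]
    push_cast
    simp only [map_add, map_smul]
    module
  rw [e1]
  refine Q0.add_mem (Q0.add_mem ?_ ?_) (Q0.add_mem (Q0.smul_mem _ ?_) (Q0.smul_mem _ ?_))
  · obtain ⟨u', hu', hu''⟩ := hu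
    have := hQm _ (hgU u' hu')
    have e2 : (u : V) = (u' : V) := hu''.symm
    rw [e2]
    exact this
  · have h4 := k4 w hw
    rw [ng_apply] at h4
    have := Q₂.neg_mem h4
    rw [neg_sub, sub_neg_eq_add, add_comm] at this
    exact Submodule.mem_sup_right this
  · exact hQm _ hg1
  · exact hQm _ hg2

theorem two_case2 [Finite F] (h2 : (2 : F) ≠ 0) {s a b : ℕ} {ξ : K} (hξ : Gx F s ξ) (_ : Odd s) (hs3 : 3 ≤ s)
    {B : LinearMap.BilinForm F V} (hB : Alt B) {g : V ≃ₗ[F] V} (hg : Iso B g)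
    {R' R₁ : Submodule F V} (hR' : Module.finrank F R' = 2 * a) (hR₁ : Module.finrank F R₁ = 2 * b)
    (hab : a + b = 2 * s) (ha : Odd a) (hb : Odd b) (hba : b ≤ a) (hN' : Nd B R')
    (hN₁ : Nd B R₁) (ho : Orth B R' R₁) (htop : R' ⊔ R₁ = ⊤) (h1 : ∀ v ∈ R', g v = v) (h3 : ∀ v ∈ R₁, g v = -v) :
    CC B (minpoly F ξ) g := by
  obtain ⟨c, rfl⟩ := ha
  obtain ⟨d, rfl⟩ := hb
  obtain ⟨R1, hR1, hR1N, hR1f⟩ := exists_sub hB hN' hR' (s - 1) (by omega)
  obtain ⟨R2, hR2, hR12, hR12s, hR2N, hR2f, -⟩ := split_off hB hR1 hR1N hN'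
  obtain ⟨S1, hS1, hS1N, hS1f⟩ := exists_sub hB hN₁ hR₁ 1 (by omega)
  obtain ⟨S2, hS2, hS12, hS12s, hS2N, hS2f, -⟩ := split_off hB hS1 hS1N hN₁
  have oRS : ∀ {T T' : Submodule F V}, T ≤ R' → T' ≤ R₁ → Orth B T T' := fun h4 h5 x hx y hy =>
    ho x (h4 hx) y (h5 hy)
  have oA : Orth B (R1 ⊔ S1) (R2 ⊔ S2) :=
    orth_sup (orth_sup' hR12 (oRS hR1 hS2)) (orth_sup' ((oRS hR2 hS1).symm hB) hS12)
  have hAN : Nd B (R1 ⊔ S1) := Nd.sup hB (oRS hR1 hS1) hR1N hS1N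
  have hBN : Nd B (R2 ⊔ S2) := Nd.sup hB (oRS hR2 hS2) hR2N hS2N
  have htopA : R1 ⊔ S1 ⊔ (R2 ⊔ S2) = ⊤ := by
    rw [sup_sup_sup_comm, hR12s, hS12s, htop]
  have inv1 : ∀ {T : Submodule F V}, T ≤ R' → Inv g T := fun h4 v hv => by rw [h1 v (h4 hv)]; exact hv
  have inv2 : ∀ {T : Submodule F V}, T ≤ R₁ → Inv g T := fun {T} h4 v hv => by
    rw [h3 v (h4 hv)]; exact T.neg_mem hv
  have hIA : Inv g (R1 ⊔ S1) := Inv.sup (inv1 hR1) (inv2 hS1)
  have hIB : Inv g (R2 ⊔ S2) := Inv.sup (inv1 hR2) (inv2 hS2)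
  refine CC.sup hB oA hAN htopA hIA hIB ?_ ?_
  · refine cc_j h2 hξ (r := s - 2) (d := 0) Even.zero (by omega) (by omega) (restrict_alt hB _) (restrict_nond hAN)
      (gr_iso hg _ hIA) (R' := R1.comap (R1 ⊔ S1).subtype) (R₁ := S1.comap (R1 ⊔ S1).subtype) ?_ ?_ ?_ ?_
      (fun x hx y hy => oRS hR1 hS1 x hx y hy) ?_ ?_ ?_
    · rw [(Submodule.comapSubtypeEquivOfLe le_sup_left).finrank_eq, hR1f]; omega
    · rw [(Submodule.comapSubtypeEquivOfLe le_sup_right).finrank_eq, hS1f]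
    · intro v hv h0
      exact Subtype.ext (hR1N v hv fun w hw => h0 ⟨w, Submodule.mem_sup_left hw⟩ hw)
    · intro v hv h0
      exact Subtype.ext (hS1N v hv fun w hw => h0 ⟨w, Submodule.mem_sup_right hw⟩ hw)
    · rw [eq_top_iff]
      intro v _
      obtain ⟨x, hx, y, hy, hxy⟩ := Submodule.mem_sup.1 v.2
      have e1 : v = (⟨x, Submodule.mem_sup_left hx⟩ : ↥(R1 ⊔ S1)) + ⟨y, Submodule.mem_sup_right hy⟩ :=
        Subtype.ext hxy.symm
      rw [e1]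
      exact Submodule.add_mem_sup hx hy
    · intro v hv
      exact Subtype.ext (h1 v (hR1 hv))
    · intro v hv
      exact Subtype.ext (h3 v (hS1 hv))
  · have m1 : Mix B g (2 * c + 1 - (s - 1)) 0 R2 := mix_of_c1On hB hR2N (by omega)
      (exists_lag hB hR2N hg (fun v hv => h1 v (hR2 hv)))
    have m2 : Mix B (ng g) (2 * d) 0 S2 := mix_of_c1On hB hS2N (by omega)
      (exists_lag hB hS2N (ng_iso hg) (fun v hv => by rw [ng_apply, h3 v (hS2 hv), neg_neg]))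
    have m2' := m2.ng
    rw [ng_ng] at m2'
    have m3 := mix_restrict hIB (Mix.sup hB (oRS hR2 hS2) hR2N m1 m2')
    have hfin : Module.finrank F ↥(R2 ⊔ S2) = 2 * s := by
      rw [finrank_sup_of_orth hB (oRS hR2 hS2) hR2N le_rfl le_rfl]
      omega
    exact cc_mix h2 hξ (n := s) (Or.inl rfl) (restrict_alt hB _) (restrict_nond hBN) (by omega)
      (by rw [zero_add]; exact even_two_mul d) (by omega) hfin (gr_iso hg _ hIB) m3

/-- **the dichotomy** -/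
theorem cc_or [Finite F] (h2 : (2 : F) ≠ 0) {s n : ℕ} {ξ : K} (hξ : Gx F s ξ) (hn : 2 ≤ n)
    (hsn : (s = n ∧ (Odd n ∨ 4 ∣ n)) ∨ (Odd s ∧ n = 2 * s ∧ 3 ≤ s))
    {B : LinearMap.BilinForm F V} (hB : Alt B) (hN : Nond B) (hV : Module.finrank F V = 2 * n) {g : V ≃ₗ[F] V}
    (hg : Iso B g) : CC B (minpoly F ξ) g ∨ CC B (minpoly F ξ) (ng g) := by
  have hTN : Nd B ⊤ := fun v _ h => hN v (fun w => h w trivial)
  obtain ⟨P', P₁, o1, i1, i2, n1, n2, hsup, hc, hc', -⟩ := exists_split hB hg _ ⊤ (fun v _ => trivial) hTN rfl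
  have hsn' : s = n ∨ (Odd s ∧ n = 2 * s) := by
    rcases hsn with ⟨h, -⟩ | ⟨h, h', -⟩
    · exact Or.inl h
    · exact Or.inr ⟨h, h'⟩
  obtain ⟨a, ha⟩ : ∃ a, Module.finrank F P' = 2 * a := by
    obtain ⟨P, Q, k1, k2, k3, k4⟩ := hc
    exact ⟨_, finrank_lag hB n1 k1 k2 k3⟩
  obtain ⟨b, hb⟩ : ∃ b, Module.finrank F P₁ = 2 * b := by
    obtain ⟨P, Q, k1, k2, k3, k4⟩ := hc'
    exact ⟨_, finrank_lag hB n2 k1 k2 k3⟩
  have hab : a + b = n := by
    have h3 := finrank_sup_of_orth hB o1 n1 le_rfl le_rfl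
    rw [hsup, finrank_top, hV, ha, hb] at h3
    omega
  have m1 : Mix B g a 0 P' := mix_of_c1On hB n1 ha hc
  have m2 : Mix B g 0 b P₁ := by
    have := (mix_of_c1On hB n2 hb hc').ng
    rwa [ng_ng] at this
  have fin' : ∀ (h : V ≃ₗ[F] V) (a' b' : ℕ), Iso B h → a' + b' = n → Even b' → Mix B h a' b' ⊤ →
      CC B (minpoly F ξ) h ∨ CC B (minpoly F ξ) (ng h) := by
    intro h a' b' hh hab' hb' hm
    rcases Nat.eq_zero_or_pos a' with h0 | h0
    · right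
      subst h0
      exact cc_mix h2 hξ hsn' hB hN (a := b') (b := 0) (by omega) Even.zero (by omega) hV (ng_iso hh) hm.ng
    · left
      exact cc_mix h2 hξ hsn' hB hN h0 hb' hab' hV hh hm
  have fin : ∀ (a' b' : ℕ), a' + b' = n → (Even a' ∨ Even b') → Mix B g a' b' ⊤ →
      CC B (minpoly F ξ) g ∨ CC B (minpoly F ξ) (ng g) := by
    rintro a' b' hab' (h | h) hm
    · have := fin' (ng g) b' a' (ng_iso hg) (by omega) h hm.ng
      rw [ng_ng] at this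
      exact this.symm
    · exact fin' g a' b' hg hab' h hm
  by_cases hev : Even a ∨ Even b
  · apply fin a b hab hev
    rw [← hsup]
    have := Mix.sup hB o1 n1 m1 m2
    rwa [add_zero, zero_add] at this
  push Not at hev
  rw [Nat.not_even_iff_odd, Nat.not_even_iff_odd] at hev
  obtain ⟨hoa, hob⟩ := hev
  by_cases hg1 : ∀ v ∈ P', g v = v
  swap
  · obtain ⟨c, rfl⟩ := hoa
    have m3 := Mix.sup hB o1 n1 (H140.War.reflection h2 hB hg n1 i1 ha hc hg1) m2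
    rw [hsup, add_zero] at m3
    exact fin _ _ (by omega) (Or.inl (even_two_mul c)) m3
  by_cases hg2 : ∀ v ∈ P₁, ng g v = v
  swap
  · obtain ⟨d, rfl⟩ := hob
    have m3 := (H140.War.reflection h2 hB (ng_iso hg) n2 (inv_ng i2) hb hc' hg2).ng
    rw [ng_ng] at m3
    have m4 := Mix.sup hB o1 n1 m1 m3
    rw [hsup, zero_add] at m4
    exact fin _ _ (by omega) (Or.inr (even_two_mul d)) m4
  have hg2' : ∀ v ∈ P₁, g v = -v := by
    intro v hv
    have := hg2 v hv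
    rw [ng_apply] at this
    rw [← this, neg_neg, this]
  have hg1' : ∀ v ∈ P', ng g v = -v := by
    intro v hv
    rw [ng_apply, hg1 v hv]
  have hen : Even n := by rw [← hab]; exact hoa.add_odd hob
  have hswap : P₁ ⊔ P' = ⊤ := by rw [sup_comm]; exact hsup
  rcases hsn with ⟨rfl, h4⟩ | ⟨hs, rfl, hs3⟩
  · have h4' : 4 ∣ s := h4.resolve_left (by rwa [Nat.not_odd_iff_even])
    have hne : a ≠ b := by
      rintro rfl
      obtain ⟨c, rfl⟩ := hoa
      omega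
    obtain ⟨c, rfl⟩ := hoa
    obtain ⟨d, rfl⟩ := hob
    rcases Nat.lt_or_ge d c with hdc | hdc
    · left
      exact cc_j h2 hξ (r := 2 * c) (d := 2 * d) (even_two_mul d) (by omega) (by omega) hB hN hg ha hb n1 n2 o1 hsup
        hg1 hg2'
    · right
      exact cc_j h2 hξ (r := 2 * d) (d := 2 * c) (even_two_mul c) (by omega) (by omega) hB hN (ng_iso hg) hb ha n2 n1
        (o1.symm hB) hswap hg2 hg1'
  · rcases le_total b a with hba | hba
    · left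
      exact two_case2 h2 hξ hs hs3 hB hg ha hb hab hoa hob hba n1 n2 o1 hsup hg1 hg2'
    · right
      exact two_case2 h2 hξ hs hs3 hB (ng_iso hg) hb ha (by omega) hob hoa hba n2 n1 (o1.symm hB) hswap hg2 hg1'

end Cfsg.Agent.H843.TC6
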