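import Cfsg.Agent.H843.TC6.Conj
import Cfsg.Agent.H144.War.KlPsp
import Cfsg.Agent.H210.TC.Row

/-!
# S2464, S2452 for `PSp_2n(q)`, `q` odd: one class

`psp_cc` : an element `x` of `PSp_2m(q)` with `x ^ N = 1`, `x ≠ 1` such that every element is a product of two conjugates
of `x`.
-/

set_option autoImplicit false
open Polynomial

namespace Cfsg.Agent.H843.TC6

open Cfsg Cfsg.Agent.H144 Cfsg.Agent.H144.War Cfsg.Agent.H955 Cfsg.Agent.ClassicalGeometry.SympBasic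

theorem psp_cc {F : Type} [Field F] [Finite F] {m : ℕ} (h2 : (2 : F) ≠ 0) (hm : 2 ≤ m) {K : Type} [Field K] [Algebra F K]
    [FiniteDimensional F K] {ξ : K} {s : ℕ} (hs : 2 ≤ s) (hξ : Gx F s ξ)
    (hsn : (s = m ∧ (Odd m ∨ 4 ∣ m)) ∨ (Odd s ∧ m = 2 * s ∧ 3 ≤ s)) {N : ℕ} (hN : ξ ^ N = 1) :
    ∃ x : PSp m F, x ^ N = 1 ∧ x ≠ 1 ∧ ∀ g : PSp m F, ∃ u v : PSp m F, g = (u * x * u⁻¹) * (v * x * v⁻¹) := by
  have hS := isSp_sympBilin m F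
  have hV : Module.finrank F (Fin m ⊕ Fin m → F) = 2 * m := by
    rw [Module.finrank_fintype_fun_eq_card, Fintype.card_sum, Fintype.card_fin]
    ring
  have key : ∀ {g : (Fin m ⊕ Fin m → F) ≃ₗ[F] (Fin m ⊕ Fin m → F)}, Iso (sympBilin m F) g →
      CC (sympBilin m F) (minpoly F ξ) g ∨ CC (sympBilin m F) (minpoly F ξ) (ng g) := fun {g} hg =>
    cc_or h2 hξ hm hsn hS.alt hS.nd hV hg
  obtain ⟨X₀, hX₀⟩ : ∃ X₀, LT (sympBilin m F) (minpoly F ξ) X₀ := by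
    rcases key (Iso.one _) with ⟨X, -, hX, -⟩ | ⟨X, -, hX, -⟩
    · exact ⟨X, hX⟩
    · exact ⟨X, hX⟩
  let x₀ : AH.Gm m F := ⟨X₀, hX₀.1⟩
  have hx₀ : x₀ ^ N = 1 := Subtype.ext (lt_pow hξ hS.alt hS.nd hX₀ hN)
  refine ⟨AH.pj m F x₀, by rw [← map_pow, hx₀, map_one], ?_, fun t => ?_⟩
  · intro h
    rw [AH.pj_eq_one_iff] at h
    obtain ⟨c, hc⟩ := h
    exact lt_not_scalar hs hξ hS.alt hS.nd (by omega) hX₀ c hc
  obtain ⟨g, rfl⟩ := AH.pj_surj t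
  have fin : ∀ g' : AH.Gm m F, CC (sympBilin m F) (minpoly F ξ) g'.1 →
      ∃ u v : PSp m F, AH.pj m F g' = (u * AH.pj m F x₀ * u⁻¹) * (v * AH.pj m F x₀ * v⁻¹) := by
    rintro g' ⟨X, Z, hX, hZ, hXZ⟩
    obtain ⟨u, hu, hu'⟩ := lt_conj hξ hS.alt hS.nd hX₀ hX
    obtain ⟨v, hv, hv'⟩ := lt_conj hξ hS.alt hS.nd hX₀ hZ
    refine ⟨AH.pj m F ⟨u, hu⟩, AH.pj m F ⟨v, hv⟩, ?_⟩
    rw [← map_inv, ← map_inv, ← map_mul, ← map_mul, ← map_mul, ← map_mul, ← map_mul]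
    congr 1
    apply Subtype.ext
    rw [hXZ, hu', hv']
    rfl
  rcases key g.2 with h | h
  · exact fin g h
  · have h1 : AH.pj m F g = AH.pj m F ⟨ng g.1, ng_iso g.2⟩ := by
      have h1 : AH.pj m F (⟨ng g.1, ng_iso g.2⟩ * g⁻¹) = 1 := by
        rw [AH.pj_eq_one_iff]
        refine ⟨-1, fun v => ?_⟩
        rw [neg_one_smul]
        change ng g.1 (g.1⁻¹ v) = -v
        rw [ng_apply, app_inv]
      rw [map_mul, map_inv, mul_inv_eq_one] at h1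
      exact h1.symm
    rw [h1]
    exact fin _ h

/-- prime order: S2464 and S2452 -/
theorem row3_psp_of {F : Type} [Field F] [Finite F] {m : ℕ} (h2 : (2 : F) ≠ 0) (hm : 2 ≤ m) {K : Type} [Field K]
    [Algebra F K] [FiniteDimensional F K] {ξ : K} {s r : ℕ} (hs : 2 ≤ s) (hξ : Gx F s ξ)
    (hsn : (s = m ∧ (Odd m ∨ 4 ∣ m)) ∨ (Odd s ∧ m = 2 * s ∧ 3 ≤ s)) (hr : r.Prime) (hr6 : Nat.Coprime r 6)
    (hN : ξ ^ r = 1) : H210.TC.Row3 (PSp m F) := by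
  obtain ⟨x, hx, hx1, h⟩ := psp_cc h2 hm hs hξ hsn hN
  have ho : orderOf x = r := by
    rcases (Nat.dvd_prime hr).1 (orderOf_dvd_of_pow_eq_one hx) with h1 | h1
    · exact absurd (orderOf_eq_one_iff.1 h1) hx1
    · exact h1
  exact H210.TC.Row3.of_sq (x := x) (by rw [ho]; exact hr) (by rw [ho]; exact hr6) fun g _ => h g

/-- order prime to `6`: S2464 -/
theorem six_psp_of {F : Type} [Field F] [Finite F] {m : ℕ} (h2 : (2 : F) ≠ 0) (hm : 2 ≤ m) {K : Type} [Field K]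
    [Algebra F K] [FiniteDimensional F K] {ξ : K} {s N : ℕ} (hs : 2 ≤ s) (hξ : Gx F s ξ)
    (hsn : (s = m ∧ (Odd m ∨ 4 ∣ m)) ∨ (Odd s ∧ m = 2 * s ∧ 3 ≤ s)) (hr6 : Nat.Coprime N 6) (hN : ξ ^ N = 1) :
    ∃ x y : PSp m F, Nat.Coprime (orderOf x) 6 ∧ Nat.Coprime (orderOf y) 6 ∧
      ∀ g : PSp m F, g ≠ 1 → ∃ u v : PSp m F, g = (u * x * u⁻¹) * (v * y * v⁻¹) := by
  obtain ⟨x, hx, hx1, h⟩ := psp_cc h2 hm hs hξ hsn hN
  have ho : Nat.Coprime (orderOf x) 6 := Nat.Coprime.coprime_dvd_left (orderOf_dvd_of_pow_eq_one hx) hr6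
  exact ⟨x, x, ho, ho, fun g _ => h g⟩

end Cfsg.Agent.H843.TC6
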